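import Cfsg.Agent.Lib.Cores.Basic
import Mathlib

/-!
Groups of order 48 with a central involution whose elements of order three have centralizers of order six.
-/

set_option autoImplicit false
set_option linter.style.haveILetI false
set_option linter.unusedSectionVars false

namespace CfsgLib.SmallSimple.Degree6000.Five616

open Subgroup

variable {C : Type*} [Group C] [Finite C]

/-- The `2`-core of such a group. -/
structure CoreFacts (w : C) : Prop where
  not_normal : ∀ P : Sylow 2 C, ¬ (P : Subgroup C).Normal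
  card_core : Nat.card (Cfsg.pCore 2 C) = 8
  cent_core : centralizer (Cfsg.pCore 2 C : Set C) ≤ Cfsg.pCore 2 C
  inter : ∀ P R : Sylow 2 C, P ≠ R → (P : Subgroup C) ⊓ (R : Subgroup C) = Cfsg.pCore 2 C
  mem_core : w ∈ Cfsg.pCore 2 C
  fixed : ∀ z : C, orderOf z = 3 → ∀ x ∈ Cfsg.pCore 2 C, z * x = x * z → x = 1 ∨ x = w
  elementary : ∀ r ∈ Cfsg.pCore 2 C, orderOf r = 2 → r ≠ w → ∀ x ∈ Cfsg.pCore 2 C, x * x = 1

variable {w : C} (hC : Nat.card C = 48) (hw : orderOf w = 2) (hwc : ∀ y : C, y * w = w * y)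
  (h6 : ∀ z : C, orderOf z = 3 → Nat.card (centralizer ({z} : Set C)) = 6)

include hC in
theorem card_sylow_48 (P : Sylow 2 C) : Nat.card (P : Subgroup C) = 16 := by
  haveI : Fact (Nat.Prime 2) := ⟨Nat.prime_two⟩
  have a1 := (Nat.prime_two.pow_dvd_iff_le_factorization (by norm_num : 48 ≠ 0)).1
    (by norm_num : 2 ^ 4 ∣ 48)
  have a2 := mt (Nat.prime_two.pow_dvd_iff_le_factorization (by norm_num : 48 ≠ 0)).2
    (by norm_num : ¬ 2 ^ 5 ∣ 48)
  rw [P.card_eq_multiplicity, hC, show (48 : ℕ).factorization 2 = 4 by omega]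
  norm_num

include hC hw hwc h6 in
set_option maxHeartbeats 400000 in
theorem coreFacts : CoreFacts w := by
  classical
  haveI : Fact (Nat.Prime 2) := ⟨Nat.prime_two⟩
  haveI : Fact (Nat.Prime 3) := ⟨Nat.prime_three⟩
  have hSyl := card_sylow_48 hC
  have hwmem : w ∈ Cfsg.pCore 2 C := by
    have hn : (zpowers w).Normal := ⟨fun a ha g => by
      obtain ⟨i, rfl⟩ := mem_zpowers_iff.1 ha
      rw [show g * w ^ i * g⁻¹ = w ^ i by
        rw [((show Commute g w from hwc g).zpow_right i).eq, mul_inv_cancel_right]]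
      exact zpow_mem (mem_zpowers w) i⟩
    exact (le_sSup ⟨hn, IsPGroup.of_card (n := 1) (by rw [Nat.card_zpowers, hw, pow_one])⟩ :
      zpowers w ≤ Cfsg.pCore 2 C) (mem_zpowers w)
  -- elements commuting with an element of order three
  have hK : ∀ z : C, orderOf z = 3 → ∀ H : Subgroup C, IsPGroup 2 H → w ∈ H →
      ∀ x ∈ H, z * x = x * z → x = 1 ∨ x = w := by
    intro z hz H hH hwH x hx hzx
    set K : Subgroup C := H ⊓ centralizer ({z} : Set C) with hKdef
    obtain ⟨i, hi⟩ := IsPGroup.iff_card.1 (hH.to_le (inf_le_left : K ≤ H))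
    have hd : Nat.card K ∣ 6 := h6 z hz ▸ Subgroup.card_dvd_of_le inf_le_right
    have hwK : w ∈ K := Subgroup.mem_inf.2 ⟨hwH, mem_centralizer_singleton_iff.2 (hwc z).symm⟩
    have hxK : x ∈ K := Subgroup.mem_inf.2 ⟨hx, mem_centralizer_singleton_iff.2 hzx.symm⟩
    have hle : zpowers w ≤ K := zpowers_le.2 hwK
    have hi1 : i ≤ 1 := by
      by_contra hlt
      have h4 := (pow_dvd_pow 2 (show 2 ≤ i by omega)).trans (hi ▸ hd)
      norm_num at h4
    have heq : zpowers w = K := eq_of_le_of_card_ge hle (by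
      rw [hi, Nat.card_zpowers, hw]
      calc 2 ^ i ≤ 2 ^ 1 := Nat.pow_le_pow_right (by norm_num) hi1
        _ = 2 := pow_one 2)
    rw [← heq] at hxK
    obtain ⟨j, rfl⟩ := mem_zpowers_iff.1 hxK
    have hj := Int.emod_two_eq j
    rw [← zpow_mod_orderOf w j, hw]
    rcases hj with e | e
    · left; rw [show ((2 : ℕ) : ℤ) = 2 from rfl, e, zpow_zero]
    · right; rw [show ((2 : ℕ) : ℤ) = 2 from rfl, e, zpow_one]
  -- elements fixed by the conjugation action
  have hfix : ∀ z : C, orderOf z = 3 → ∀ H : Subgroup C, H.Normal → IsPGroup 2 H → w ∈ H →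
      Nat.card H % 3 = 2 := by
    intro z hz H hn hH hwH
    haveI := hn
    let act : MulAction (zpowers z) H :=
      MulAction.compHom _ ((MulAut.conjNormal : C →* MulAut H).comp (zpowers z).subtype)
    have hmod := (IsPGroup.of_card (n := 1) (by rw [Nat.card_zpowers, hz, pow_one]) :
      IsPGroup 3 (zpowers z)).card_modEq_card_fixedPoints H
    have hfp : MulAction.fixedPoints (zpowers z) H = {(1 : H), ⟨w, hwH⟩} := by
      ext x
      simp only [Set.mem_insert_iff, Set.mem_singleton_iff]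
      constructor
      · intro hx
        have h2 : z * (x : C) * z⁻¹ = x := congrArg Subtype.val (hx ⟨z, mem_zpowers z⟩)
        rcases hK z hz H hH hwH x x.2 (mul_inv_eq_iff_eq_mul.1 h2) with e | e
        · exact Or.inl (Subtype.ext e)
        · exact Or.inr (Subtype.ext e)
      · rintro (rfl | rfl) g <;> refine Subtype.ext ?_
        · show (g : C) * 1 * (g : C)⁻¹ = 1
          rw [mul_one, mul_inv_cancel]
        · show (g : C) * w * (g : C)⁻¹ = w
          rw [hwc, mul_inv_cancel_right]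
    have hne : (1 : H) ≠ ⟨w, hwH⟩ := fun e => by
      have e' : (1 : C) = w := congrArg Subtype.val e
      rw [← e', orderOf_one] at hw
      omega
    have h2 : Nat.card (MulAction.fixedPoints (zpowers z) H) = 2 := by
      rw [hfp, Nat.card_coe_set_eq, Set.ncard_pair hne]
    rw [h2] at hmod
    exact hmod
  obtain ⟨z, hz⟩ := exists_prime_orderOf_dvd_card' (G := C) 3 (by rw [hC]; norm_num)
  have hnot : ∀ P : Sylow 2 C, ¬ (P : Subgroup C).Normal := by
    intro P hPn
    have := hfix z hz P hPn P.2 (Cores.pCore_le_sylow P hwmem)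
    rw [hSyl P] at this
    norm_num at this
  have hinter : ∀ P R : Sylow 2 C, P ≠ R →
      ((P : Subgroup C) ⊓ (R : Subgroup C)).Normal ∧
        Nat.card ((P : Subgroup C) ⊓ (R : Subgroup C) : Subgroup C) = 8 := by
    intro P R hPR
    set D := (P : Subgroup C) ⊓ (R : Subgroup C) with hD
    have hd : Nat.card D ∣ 16 := hSyl P ▸ Subgroup.card_dvd_of_le inf_le_left
    have hlt : Nat.card D ≠ 16 := by
      intro h16
      have e1 : D = (P : Subgroup C) := eq_of_le_of_card_ge inf_le_left (by rw [h16, hSyl P])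
      have e2 : D = (R : Subgroup C) := eq_of_le_of_card_ge inf_le_right (by rw [h16, hSyl R])
      exact hPR (Sylow.ext (e1.symm.trans e2))
    have hge : 5 < Nat.card D := by
      have e1 : (P : Subgroup C).index = 3 := by
        have := (P : Subgroup C).index_mul_card
        rw [hSyl P, hC] at this
        omega
      have e2 : ((P : Subgroup C).relIndex (R : Subgroup C)) * Nat.card D = 16 := by
        rw [← inf_relIndex_right, ← hD, ← hSyl R]
        have := (D.subgroupOf (R : Subgroup C)).index_mul_card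
        rwa [Nat.card_congr (subgroupOfEquivOfLe (inf_le_right : D ≤ (R : Subgroup C))).toEquiv] at this
      have e3 : (P : Subgroup C).relIndex (R : Subgroup C) ≤ 3 :=
        (relIndex_le_of_le_right le_top (by rw [relIndex_top_right]; omega)).trans
          (by rw [relIndex_top_right, e1])
      nlinarith
    have h8 : Nat.card D = 8 := by
      have hlist : ∀ k ∈ Nat.divisors 16, k ≠ 16 → 5 < k → k = 8 := by decide +kernel
      exact hlist _ (Nat.mem_divisors.2 ⟨hd, by norm_num⟩) hlt hge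
    refine ⟨?_, h8⟩
    rw [← normalizer_eq_top_iff]
    have hle : ∀ T : Sylow 2 C, D ≤ (T : Subgroup C) → (T : Subgroup C) ≤ normalizer (D : Set C) := by
      intro T hT
      have hidx : (D.subgroupOf (T : Subgroup C)).index = 2 := by
        have := (D.subgroupOf (T : Subgroup C)).index_mul_card
        rw [Nat.card_congr (subgroupOfEquivOfLe hT).toEquiv, h8, hSyl T] at this
        omega
      haveI := normal_of_index_eq_two hidx
      exact (normal_subgroupOf_iff_le_normalizer hT).1 inferInstance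
    refine eq_top_of_card_eq _ (Nat.dvd_antisymm (card_subgroup_dvd_card _) ?_)
    have hd16 : 16 ∣ Nat.card (normalizer (D : Set C)) := hSyl P ▸ Subgroup.card_dvd_of_le (hle P inf_le_left)
    have hne16 : Nat.card (normalizer (D : Set C)) ≠ 16 := by
      intro h16
      have e1 := eq_of_le_of_card_ge (hle P inf_le_left) (by rw [h16, hSyl P])
      have e2 := eq_of_le_of_card_ge (hle R inf_le_right) (by rw [h16, hSyl R])
      exact hPR (Sylow.ext (e1.trans e2.symm))
    have hd48 : Nat.card (normalizer (D : Set C)) ∣ 48 := hC ▸ card_subgroup_dvd_card _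
    have hlist : ∀ k ∈ Nat.divisors 48, 16 ∣ k → k ≠ 16 → k = 48 := by decide +kernel
    rw [hC, hlist _ (Nat.mem_divisors.2 ⟨hd48, by norm_num⟩) hd16 hne16]
  obtain ⟨P, R, hPR⟩ : ∃ P R : Sylow 2 C, P ≠ R := by
    obtain ⟨P⟩ : Nonempty (Sylow 2 C) := inferInstance
    by_contra hall
    simp only [not_exists, not_not] at hall
    haveI : Subsingleton (Sylow 2 C) := ⟨hall⟩
    exact hnot P P.normal_of_subsingleton
  have hinter' : ∀ P R : Sylow 2 C, P ≠ R → (P : Subgroup C) ⊓ (R : Subgroup C) = Cfsg.pCore 2 C := fun P R hPR =>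
    le_antisymm (le_sSup ⟨(hinter P R hPR).1, P.isPGroup'.to_le inf_le_left⟩)
      (le_inf (Cores.pCore_le_sylow P) (Cores.pCore_le_sylow R))
  have hcore : Nat.card (Cfsg.pCore 2 C) = 8 := hinter' P R hPR ▸ (hinter P R hPR).2
  have hEn : (Cfsg.pCore 2 C).Normal := Subgroup.sSup_normal _ fun N hN => hN.1
  have hEp : IsPGroup 2 (Cfsg.pCore 2 C) := P.2.to_le (Cores.pCore_le_sylow P)
  have hcen : centralizer (Cfsg.pCore 2 C : Set C) ≤ Cfsg.pCore 2 C := by
    haveI := hEn
    refine le_sSup ⟨inferInstance, ?_⟩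
    have hd3 : ¬ 3 ∣ Nat.card (centralizer (Cfsg.pCore 2 C : Set C)) := by
      intro hd
      obtain ⟨y, hy⟩ := exists_prime_orderOf_dvd_card' (G := centralizer (Cfsg.pCore 2 C : Set C)) 3 hd
      rw [← Subgroup.orderOf_coe] at hy
      have hle : Cfsg.pCore 2 C ≤ centralizer ({(y : C)} : Set C) := fun a ha =>
        mem_centralizer_singleton_iff.2 (mem_centralizer_iff.1 y.2 a ha)
      have := Subgroup.card_dvd_of_le hle
      rw [hcore, h6 _ hy] at this
      norm_num at this
    have hdvd : Nat.card (centralizer (Cfsg.pCore 2 C : Set C)) ∣ 2 ^ 4 := by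
      refine (Nat.Coprime.dvd_of_dvd_mul_right ?_ (show
        Nat.card (centralizer (Cfsg.pCore 2 C : Set C)) ∣ 2 ^ 4 * 3 by
          rw [show 2 ^ 4 * 3 = 48 by norm_num, ← hC]; exact card_subgroup_dvd_card _))
      exact ((Nat.prime_three.coprime_iff_not_dvd).2 hd3).symm
    obtain ⟨k, -, hk⟩ := (Nat.dvd_prime_pow Nat.prime_two).1 hdvd
    exact IsPGroup.of_card hk
  refine ⟨hnot, hcore, hcen, hinter', hwmem, fun z hz => hK z hz _ hEp hwmem, ?_⟩
  intro r hr hr2 hrw x hx
  set E := Cfsg.pCore 2 C with hEdef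
  haveI := Fintype.ofFinite C
  let I : Finset C := Finset.univ.filter fun y => y ∈ E ∧ y * y = 1
  have hI : ∀ y, y ∈ I ↔ y ∈ E ∧ y * y = 1 := fun y => by
    simp [I]
  have hww : w * w = 1 := by rw [← pow_two, ← hw, pow_orderOf_eq_one]
  have hw1 : w ≠ 1 := fun e => by rw [e, orderOf_one] at hw; omega
  have hrr : r * r = 1 := by rw [← pow_two, ← hr2, pow_orderOf_eq_one]
  have hr1 : r ≠ 1 := fun e => by rw [e, orderOf_one] at hr2; omega
  have hz3 : z ^ 3 = 1 := by rw [← hz, pow_orderOf_eq_one]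
  -- three conjugates of `r` and their translates
  let f : Fin 3 × Bool → C := fun q => z ^ (q.1 : ℕ) * r * (z ^ (q.1 : ℕ))⁻¹ * (if q.2 then w else 1)
  have hfI : ∀ q, f q ∈ I ∧ f q ≠ 1 ∧ f q ≠ w := by
    intro q
    have h1 : z ^ (q.1 : ℕ) * r * (z ^ (q.1 : ℕ))⁻¹ ∈ E := hEn.conj_mem r hr _
    have hsq : z ^ (q.1 : ℕ) * r * (z ^ (q.1 : ℕ))⁻¹ * (z ^ (q.1 : ℕ) * r * (z ^ (q.1 : ℕ))⁻¹) = 1 := by
      rw [conj_mul, hrr, mul_one, mul_inv_cancel]
    have hne1 : z ^ (q.1 : ℕ) * r * (z ^ (q.1 : ℕ))⁻¹ ≠ 1 := fun e => hr1 (conj_eq_one_iff.1 e)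
    have hnew : z ^ (q.1 : ℕ) * r * (z ^ (q.1 : ℕ))⁻¹ ≠ w := fun e => hrw (by
      calc r = (z ^ (q.1 : ℕ))⁻¹ * (z ^ (q.1 : ℕ) * r * (z ^ (q.1 : ℕ))⁻¹) * z ^ (q.1 : ℕ) := by group
        _ = (z ^ (q.1 : ℕ))⁻¹ * (w * z ^ (q.1 : ℕ)) := by rw [e, mul_assoc]
        _ = w := by rw [← hwc, inv_mul_cancel_left])
    obtain ⟨i, b⟩ := q
    cases b
    · simp only [f, Bool.false_eq_true, if_false, mul_one]
      exact ⟨(hI _).2 ⟨h1, hsq⟩, hne1, hnew⟩
    · simp only [f, if_true]
      refine ⟨(hI _).2 ⟨mul_mem h1 hwmem, ?_⟩, fun e => hnew ?_, fun e => hne1 (mul_eq_right.1 e)⟩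
      · rw [(show Commute (z ^ (i : ℕ) * r * (z ^ (i : ℕ))⁻¹) w from hwc _).symm.mul_mul_mul_comm, hsq, hww,
          one_mul]
      · rw [eq_inv_of_mul_eq_one_left e, inv_eq_of_mul_eq_one_right hww]
  have hfinj : Function.Injective f := by
    have key : ∀ i : ℕ, i < 3 → ∀ c : C, (c = 1 ∨ c = w) → z ^ i * r * (z ^ i)⁻¹ = r * c → i = 0 ∧ c = 1 := by
      intro i hi c hc hic
      rcases Nat.eq_zero_or_pos i with rfl | hpos
      · rw [pow_zero, one_mul, inv_one, mul_one] at hic
        exact ⟨rfl, left_eq_mul.1 hic⟩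
      exfalso
      set y := z ^ i with hy
      have hyo : orderOf y = 3 := by
        rw [hy, orderOf_pow, hz, Nat.Coprime.gcd_eq_one ((Nat.prime_three.coprime_iff_not_dvd).2
          fun h => by have := Nat.le_of_dvd hpos h; omega), Nat.div_one]
      rcases hc with rfl | rfl
      · rw [mul_one] at hic
        rcases hK y hyo E hEp hwmem r hr (mul_inv_eq_iff_eq_mul.1 hic) with e | e
        · exact hr1 e
        · exact hrw e
      · have hyy : y * y * y = 1 := by rw [← pow_three', ← hyo, pow_orderOf_eq_one]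
        have h2 : y * y * r * (y * y)⁻¹ = r := by
          calc y * y * r * (y * y)⁻¹ = y * (y * r * y⁻¹) * y⁻¹ := by group
            _ = y * (r * c) * y⁻¹ := by rw [hic]
            _ = y * r * y⁻¹ * (y * c * y⁻¹) := by group
            _ = r := by rw [hic, hwc y, mul_inv_cancel_right, mul_assoc, hww, mul_one]
        have h3 : y * y * y * r * (y * y * y)⁻¹ = r * c := by
          calc y * y * y * r * (y * y * y)⁻¹ = y * (y * y * r * (y * y)⁻¹) * y⁻¹ := by group
            _ = r * c := by rw [h2, hic]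
        rw [hyy, one_mul, inv_one, mul_one] at h3
        exact hw1 (left_eq_mul.1 h3)
    have hsym : ∀ (i j : Fin 3) (a b : Bool), (i : ℕ) ≤ j → f (i, a) = f (j, b) → i = j ∧ a = b := by
      intro i j a b hij e
      obtain ⟨k, hk⟩ := Nat.exists_eq_add_of_le hij
      simp only [f] at e
      rw [hk, pow_add] at e
      set c : C := (if a then w else 1) * (if b then w else 1) with hc
      have hcases : c = 1 ∨ c = w := by rw [hc]; cases a <;> cases b <;> simp [hww]
      have h1 : z ^ k * r * (z ^ k)⁻¹ = r * c := by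
        have hinv : (if b then w else 1 : C)⁻¹ = if b then w else 1 := by
          cases b <;> simp [inv_eq_of_mul_eq_one_right hww]
        have hcz : ∀ d : C, (d = 1 ∨ d = w) → (z ^ (i : ℕ))⁻¹ * d * z ^ (i : ℕ) = d := by
          rintro d (rfl | rfl)
          · group
          · rw [mul_assoc, ← hwc, inv_mul_cancel_left]
        calc z ^ k * r * (z ^ k)⁻¹
            = (z ^ (i : ℕ))⁻¹ * (z ^ (i : ℕ) * z ^ k * r * (z ^ (i : ℕ) * z ^ k)⁻¹ * (if b then w else 1)) *
              ((if b then w else 1)⁻¹ * z ^ (i : ℕ)) := by group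
          _ = r * ((z ^ (i : ℕ))⁻¹ * ((if a then w else 1) * (if b then w else 1)⁻¹) * z ^ (i : ℕ)) := by
            rw [← e]; group
          _ = r * c := by rw [hinv, ← hc, hcz c hcases]
      obtain ⟨hk0, hc1⟩ := key k (by omega) c hcases h1
      refine ⟨Fin.ext (by omega), ?_⟩
      rw [hc] at hc1
      cases a <;> cases b <;> simp_all
    rintro ⟨i, a⟩ ⟨j, b⟩ e
    rcases le_total (i : ℕ) j with h | h
    · obtain ⟨rfl, rfl⟩ := hsym i j a b h e; rfl
    · obtain ⟨rfl, rfl⟩ := hsym j i b a h e.symm; rfl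
  have hsub : (Finset.univ.image f) ∪ {1, w} ⊆ I := by
    intro y hy
    rcases Finset.mem_union.1 hy with h | h
    · obtain ⟨q, -, rfl⟩ := Finset.mem_image.1 h
      exact (hfI q).1
    · rcases Finset.mem_insert.1 h with rfl | h
      · exact (hI _).2 ⟨one_mem _, one_mul 1⟩
      · rw [Finset.mem_singleton] at h
        exact h ▸ (hI _).2 ⟨hwmem, hww⟩
  have hcardI : 8 ≤ I.card := by
    refine le_trans ?_ (Finset.card_le_card hsub)
    rw [Finset.card_union_of_disjoint, Finset.card_image_of_injective _ hfinj, Finset.card_pair hw1.symm]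
    · simp
    · rw [Finset.disjoint_left]
      intro y hy hy'
      obtain ⟨q, -, rfl⟩ := Finset.mem_image.1 hy
      rcases Finset.mem_insert.1 hy' with e | e
      · exact (hfI q).2.1 e
      · exact (hfI q).2.2 (Finset.mem_singleton.1 e)
  set U : Finset C := Finset.univ.filter fun y => y ∈ E with hU
  have hU8 : U.card = 8 := by
    rw [hU, ← Fintype.card_subtype, ← Nat.card_eq_fintype_card]
    exact hcore
  have hIU : I = U := Finset.eq_of_subset_of_card_le
    (fun y hy => Finset.mem_filter.2 ⟨Finset.mem_univ _, ((hI y).1 hy).1⟩) (by omega)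
  have hxU : x ∈ U := by simp [hU, hx]
  rw [← hIU] at hxU
  exact ((hI x).1 hxU).2

end CfsgLib.SmallSimple.Degree6000.Five616
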