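import Cfsg.Agent.Lib.SmallSimple.Degree6000.Five616.Local
import Cfsg.Agent.Lib.SmallSimple.Degree6000.Five616.Core
import Cfsg.Agent.Lib.Invol.ZStarFinal
import Cfsg.Agent.Lib.GLTwoThree.RootsMain
import Cfsg.Agent.S3304

/-!
The centralizer of an involution in a simple group of order 5616.
-/

set_option autoImplicit false
set_option linter.style.haveILetI false
set_option linter.unusedSectionVars false

namespace CfsgLib.SmallSimple.Degree6000.Five616

open Subgroup CfsgLib

variable {G : Type*} [Group G] [Finite G]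

/-- The data on involutions. -/
structure Invols (G : Type*) [Group G] : Prop where
  card : Nat.card G = 5616
  card_cent : ∀ t : G, orderOf t = 2 → Nat.card (centralizer ({t} : Set G)) = 48
  card_inf : ∀ t s : G, orderOf t = 2 → orderOf s = 3 → Commute t s →
    Nat.card (centralizer ({t} : Set G) ⊓ centralizer ({s} : Set G) : Subgroup G) = 6

/-- The involution in its centralizer. -/
def self' (t : G) : centralizer ({t} : Set G) := ⟨t, mem_centralizer_singleton_iff.2 rfl⟩

/-- The `2`-core of the centralizer. -/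
def core (t : G) : Subgroup G :=
  (Cfsg.pCore 2 (centralizer ({t} : Set G))).map (centralizer ({t} : Set G)).subtype

theorem mem_core_iff {t y : G} :
    y ∈ core t ↔ ∃ a : centralizer ({t} : Set G), a ∈ Cfsg.pCore 2 (centralizer ({t} : Set G)) ∧ (a : G) = y := by
  simp only [core, Subgroup.mem_map, Subgroup.coe_subtype]

namespace Invols

variable (H : Invols G) {t : G} (ht : orderOf t = 2)
include H ht

theorem facts : CoreFacts (self' t) := by
  refine coreFacts (H.card_cent t ht) (by rw [← Subgroup.orderOf_coe]; exact ht)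
    (fun y => Subtype.ext (mem_centralizer_singleton_iff.1 y.2)) fun z hz => ?_
  have hc : Commute t (z : G) := (mem_centralizer_singleton_iff.1 z.2).symm
  rw [← H.card_inf t z ht (by rw [Subgroup.orderOf_coe, hz]) hc]
  exact Nat.card_congr
    { toFun := fun y => ⟨y.1.1, mem_inf.2 ⟨y.1.2, mem_centralizer_singleton_iff.2
        (congrArg Subtype.val (mem_centralizer_singleton_iff.1 y.2))⟩⟩
      invFun := fun y => ⟨⟨y.1, (mem_inf.1 y.2).1⟩, mem_centralizer_singleton_iff.2
        (Subtype.ext (mem_centralizer_singleton_iff.1 (mem_inf.1 y.2).2))⟩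
      left_inv := fun y => rfl
      right_inv := fun y => rfl }

theorem card_core' : Nat.card (core t) = 8 := by
  rw [core, card_map_of_injective (subtype_injective _), (H.facts ht).card_core]

theorem self_mem : t ∈ core t := mem_core_iff.2 ⟨self' t, (H.facts ht).mem_core, rfl⟩

theorem cent_le {y : G} (hy : ∀ a ∈ core t, a * y = y * a) : y ∈ core t := by
  have hyC : y ∈ centralizer ({t} : Set G) := mem_centralizer_singleton_iff.2 (hy t (H.self_mem ht)).symm
  refine mem_core_iff.2 ⟨⟨y, hyC⟩, (H.facts ht).cent_core ?_, rfl⟩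
  rw [mem_centralizer_iff]
  exact fun a ha => Subtype.ext (hy a (mem_core_iff.2 ⟨a, ha, rfl⟩))

theorem core_le : core t ≤ centralizer ({t} : Set G) := fun y hy => by
  obtain ⟨a, -, rfl⟩ := mem_core_iff.1 hy
  exact a.2

theorem exists_three : ∃ s : G, orderOf s = 3 ∧ Commute t s := by
  haveI : Fact (Nat.Prime 3) := ⟨Nat.prime_three⟩
  obtain ⟨z, hz⟩ := exists_prime_orderOf_dvd_card' (G := centralizer ({t} : Set G)) 3
    (by rw [H.card_cent t ht]; norm_num)
  exact ⟨z, by rw [Subgroup.orderOf_coe, hz], (mem_centralizer_singleton_iff.1 z.2).symm⟩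

theorem fixed {s y : G} (hs : orderOf s = 3) (hts : Commute t s) (hy : y ∈ core t) (hsy : s * y = y * s) :
    y = 1 ∨ y = t := by
  obtain ⟨a, ha, rfl⟩ := mem_core_iff.1 hy
  have hsC : s ∈ centralizer ({t} : Set G) := mem_centralizer_singleton_iff.2 hts.eq.symm
  rcases (H.facts ht).fixed ⟨s, hsC⟩ (by rw [← Subgroup.orderOf_coe]; exact hs) a ha (Subtype.ext hsy) with e | e
  · exact Or.inl (congrArg Subtype.val e)
  · exact Or.inr (congrArg Subtype.val e)

theorem cent_le_normalizer : centralizer ({t} : Set G) ≤ normalizer (core t : Set G) := by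
  intro g hg
  haveI : (Cfsg.pCore 2 (centralizer ({t} : Set G))).Normal := Subgroup.sSup_normal _ fun N hN => hN.1
  have hconj : ∀ c : centralizer ({t} : Set G), ∀ y ∈ core t, (c : G) * y * (c : G)⁻¹ ∈ core t := by
    intro c y hy
    obtain ⟨a, ha, rfl⟩ := mem_core_iff.1 hy
    exact mem_core_iff.2 ⟨c * a * c⁻¹, Subgroup.Normal.conj_mem inferInstance a ha c, rfl⟩
  rw [mem_normalizer_iff]
  intro y
  refine ⟨hconj ⟨g, hg⟩ y, fun hy => ?_⟩
  have h := hconj ⟨g⁻¹, inv_mem hg⟩ _ hy
  simp only [inv_inv] at h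
  rwa [show g⁻¹ * (g * y * g⁻¹) * g = y by group] at h

theorem normalizer_core : normalizer (core t : Set G) = centralizer ({t} : Set G) := by
  haveI : Fact (Nat.Prime 3) := ⟨Nat.prime_three⟩
  set N := normalizer (core t : Set G) with hN
  have hle : centralizer ({t} : Set G) ≤ N := H.cent_le_normalizer ht
  set t' : N := ⟨t, hle (mem_centralizer_singleton_iff.2 rfl)⟩ with ht'
  obtain ⟨q, hq⟩ : 48 ∣ Nat.card N := H.card_cent t ht ▸ card_dvd_of_le hle
  have hq117 : q ∣ 117 := by
    have h := card_subgroup_dvd_card N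
    rw [H.card, hq, show (5616 : ℕ) = 48 * 117 by norm_num] at h
    exact Nat.dvd_of_mul_dvd_mul_left (by norm_num) h
  have hidx : Nat.card {w : N // IsConj t' w} = q := by
    haveI := Fintype.ofFinite N
    rw [CfsgLib.Char.card_isConj_eq_index]
    have h := card_mul_index (centralizer ({t'} : Set N))
    have hc : Nat.card (centralizer ({t'} : Set N)) = 48 := by
      rw [← H.card_cent t ht]
      exact Nat.card_congr
        { toFun := fun y => ⟨y.1.1, mem_centralizer_singleton_iff.2
            (congrArg Subtype.val (mem_centralizer_singleton_iff.1 y.2))⟩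
          invFun := fun y => ⟨⟨y.1, hle y.2⟩, mem_centralizer_singleton_iff.2
            (Subtype.ext (mem_centralizer_singleton_iff.1 y.2))⟩
          left_inv := fun y => rfl
          right_inv := fun y => rfl }
    rw [hc, hq] at h
    exact Nat.eq_of_mul_eq_mul_left (by norm_num) h
  have hmem : ∀ w : N, IsConj t' w → (w : G) ∈ core t ∧ (w : G) ≠ 1 := by
    intro w hw
    obtain ⟨n, rfl⟩ := isConj_iff.1 hw
    refine ⟨(mem_normalizer_iff.1 n.2 t).1 (H.self_mem ht), fun e => ?_⟩
    have e1 : t = 1 := conj_eq_one_iff.1 (show (n : G) * t * (n : G)⁻¹ = 1 from e)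
    rw [e1, orderOf_one] at ht
    omega
  have hq7 : q ≤ 7 := by
    haveI := Fintype.ofFinite (core t)
    classical
    rw [← hidx]
    refine (Nat.card_le_card_of_injective (α := {w : N // IsConj t' w}) (β := ↥((Finset.univ : Finset (core t)).erase 1))
      (fun w => ⟨⟨w.1, (hmem w.1 w.2).1⟩, Finset.mem_erase.2
        ⟨fun e => (hmem w.1 w.2).2 (congrArg Subtype.val e), Finset.mem_univ _⟩⟩)
      fun a b e => Subtype.ext (Subtype.ext (congrArg (fun u : ↥((Finset.univ : Finset (core t)).erase 1) => ((u.1 : core t) : G)) e))).trans ?_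
    rw [Nat.card_eq_fintype_card, Fintype.card_coe, Finset.card_erase_of_mem (Finset.mem_univ _),
      Finset.card_univ, ← Nat.card_eq_fintype_card, H.card_core' ht]
  obtain ⟨s, hs, hts⟩ := H.exists_three ht
  have hsN : s ∈ N := hle (mem_centralizer_singleton_iff.2 hts.eq.symm)
  let act : MulAction (zpowers (⟨s, hsN⟩ : N)) {w : N // IsConj t' w} :=
    { smul := fun c w => ⟨(c : N) * w.1 * (c : N)⁻¹, w.2.trans (isConj_iff.2 ⟨c, rfl⟩)⟩
      one_smul := fun w => Subtype.ext (by show (1 : N) * w.1 * (1 : N)⁻¹ = w.1; group)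
      mul_smul := fun a b w => Subtype.ext (by
        show (↑(a * b) : N) * w.1 * (↑(a * b) : N)⁻¹ = (a : N) * ((b : N) * w.1 * (b : N)⁻¹) * (a : N)⁻¹
        rw [Subgroup.coe_mul]; group) }
  have hso : orderOf (⟨s, hsN⟩ : N) = 3 := by rw [← Subgroup.orderOf_coe]; exact hs
  have hmod := (IsPGroup.of_card (n := 1) (by rw [Nat.card_zpowers, hso, pow_one]) :
    IsPGroup 3 (zpowers (⟨s, hsN⟩ : N))).card_modEq_card_fixedPoints {w : N // IsConj t' w}
  have hone : Nat.card (MulAction.fixedPoints (zpowers (⟨s, hsN⟩ : N)) {w : N // IsConj t' w}) = 1 := by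
    rw [Nat.card_eq_one_iff_unique]
    refine ⟨⟨fun a b => ?_⟩, ⟨⟨⟨t', IsConj.refl _⟩, fun c => ?_⟩⟩⟩
    · have key : ∀ a : MulAction.fixedPoints (zpowers (⟨s, hsN⟩ : N)) {w : N // IsConj t' w},
          ((a.1.1 : N) : G) = t := by
        intro a
        have h1 : s * (a.1.1 : G) * s⁻¹ = (a.1.1 : G) :=
          congrArg (fun v : {w : N // IsConj t' w} => ((v.1 : N) : G)) (a.2 ⟨_, mem_zpowers _⟩)
        exact (H.fixed ht hs hts (hmem _ a.1.2).1 (mul_inv_eq_iff_eq_mul.1 h1)).resolve_left
          (hmem _ a.1.2).2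
      exact Subtype.ext (Subtype.ext (Subtype.ext ((key a).trans (key b).symm)))
    · obtain ⟨i, hi⟩ := mem_zpowers_iff.1 c.2
      refine Subtype.ext ?_
      show (c : N) * t' * (c : N)⁻¹ = t'
      rw [← hi, mul_inv_eq_iff_eq_mul]
      exact ((show Commute t' (⟨s, hsN⟩ : N) from Subtype.ext hts.eq).zpow_right i).eq.symm
  rw [hidx, hone] at hmod
  have hq1 : q = 1 := by
    have h3 : q % 3 = 1 := hmod
    have : ∀ q ∈ Nat.divisors 117, q ≤ 7 → q % 3 = 1 → q = 1 := by decide +kernel
    exact this q (Nat.mem_divisors.2 ⟨hq117, by norm_num⟩) hq7 h3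
  exact (eq_of_le_of_card_ge hle (by rw [hq, hq1, H.card_cent t ht])).symm

theorem core_inj {u : G} (hu : orderOf u = 2) (he : core u = core t) : u = t := by
  obtain ⟨s, hs, hts⟩ := H.exists_three ht
  have h1 := H.normalizer_core ht
  rw [← he, H.normalizer_core hu] at h1
  have hsu : s ∈ centralizer ({u} : Set G) := h1 ▸ mem_centralizer_singleton_iff.2 hts.eq.symm
  rcases H.fixed ht hs hts (he ▸ H.self_mem hu) (mem_centralizer_singleton_iff.1 hsu) with e | e
  · rw [e, orderOf_one] at hu; omega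
  · exact e

end Invols

set_option maxHeartbeats 400000 in
/-- The `2`-core of the centralizer has only one involution. -/
theorem Invols.unique_involution (H : Invols G) {t : G} (ht : orderOf t = 2) {r : G} (hr : r ∈ core t)
    (hr2 : orderOf r = 2) : r = t := by
  classical
  haveI : Fact (Nat.Prime 2) := ⟨Nat.prime_two⟩
  haveI := Fintype.ofFinite G
  by_contra hrt
  set E := core t with hE
  have helem : ∀ u : G, orderOf u = 2 → (∃ r ∈ core u, orderOf r = 2 ∧ r ≠ u) → ∀ y ∈ core u, y * y = 1 := by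
    rintro u hu ⟨r, hr, hr2, hne⟩ y hy
    obtain ⟨a, ha, rfl⟩ := mem_core_iff.1 hr
    obtain ⟨b, hb, rfl⟩ := mem_core_iff.1 hy
    exact congrArg Subtype.val ((H.facts hu).elementary a ha (by rw [← Subgroup.orderOf_coe]; exact hr2)
      (fun e => hne (congrArg Subtype.val e)) b hb)
  have hEsq : ∀ y ∈ E, y * y = 1 := helem t ht ⟨r, hr, hr2, hrt⟩
  have hinv : ∀ {K : Subgroup G}, (∀ y ∈ K, y * y = 1) → ∀ y ∈ K, y⁻¹ = y := fun h y hy =>
    inv_eq_of_mul_eq_one_right (h y hy)
  have hEcomm : ∀ a ∈ E, ∀ b ∈ E, a * b = b * a := fun a ha b hb => by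
    have := hEsq _ (mul_mem ha hb)
    rw [mul_eq_one_iff_inv_eq, mul_inv_rev, hinv hEsq a ha, hinv hEsq b hb] at this
    exact this.symm
  -- a Sylow subgroup of the centralizer
  obtain ⟨T⟩ : Nonempty (Sylow 2 (centralizer ({t} : Set G))) := inferInstance
  set S := (T : Subgroup (centralizer ({t} : Set G))).map (centralizer ({t} : Set G)).subtype with hS
  have hS16 : Nat.card S = 16 := by
    rw [hS, card_map_of_injective (subtype_injective _), card_sylow_48 (H.card_cent t ht) T]
  have hSp : IsPGroup 2 S := IsPGroup.of_card (n := 4) (by rw [hS16]; norm_num)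
  have hES : E ≤ S := Subgroup.map_mono (Cores.pCore_le_sylow T)
  have hE8 : Nat.card E = 8 := H.card_core' ht
  obtain ⟨x, hxS, hxE⟩ : ∃ x ∈ S, x ∉ E := by
    by_contra hall
    push Not at hall
    have := card_le_of_le (show S ≤ E from hall)
    omega
  have hidx : (E.subgroupOf S).index = 2 := by
    have h := card_mul_index (E.subgroupOf S)
    rw [Nat.card_congr (subgroupOfEquivOfLe hES).toEquiv, hE8, hS16] at h
    omega
  have hxx : x * x ∈ E := mem_subgroupOf.1 (Subgroup.mul_self_mem_of_index_two hidx (⟨x, hxS⟩ : S))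
  have hxN : x ∈ normalizer (E : Set G) := by
    rw [hE, H.normalizer_core ht]
    obtain ⟨a, -, rfl⟩ := Subgroup.mem_map.1 hxS
    exact a.2
  set Z := E ⊓ centralizer ({x} : Set G) with hZ
  let φ : E →* E :=
    { toFun := fun e => ⟨e * (x * e * x⁻¹), mul_mem e.2 ((mem_normalizer_iff.1 hxN _).1 e.2)⟩
      map_one' := Subtype.ext (by simp)
      map_mul' := fun a b => Subtype.ext (by
        show (a : G) * b * (x * (a * b) * x⁻¹) = a * (x * a * x⁻¹) * (b * (x * b * x⁻¹))
        have h := hEcomm b b.2 (x * a * x⁻¹) ((mem_normalizer_iff.1 hxN _).1 a.2)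
        calc (a : G) * b * (x * (a * b) * x⁻¹) = a * (b * (x * a * x⁻¹)) * (x * b * x⁻¹) := by group
          _ = a * ((x * a * x⁻¹) * b) * (x * b * x⁻¹) := by rw [h]
          _ = _ := by group) }
  have hker : ∀ e : E, e ∈ φ.ker → (e : G) ∈ Z := by
    intro e he
    have h1 : (e : G) * (x * e * x⁻¹) = 1 := congrArg Subtype.val (MonoidHom.mem_ker.1 he)
    refine Subgroup.mem_inf.2 ⟨e.2, mem_centralizer_singleton_iff.2 ?_⟩
    have h2 : x * e * x⁻¹ = e := by rw [← inv_eq_of_mul_eq_one_right h1, hinv hEsq _ e.2]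
    exact (mul_inv_eq_iff_eq_mul.1 h2).symm
  have hran : ∀ e : E, e ∈ φ.range → (e : G) ∈ Z := by
    rintro _ ⟨e, rfl⟩
    refine Subgroup.mem_inf.2 ⟨(φ e).2, mem_centralizer_singleton_iff.2 ?_⟩
    show (e : G) * (x * e * x⁻¹) * x = x * (e * (x * e * x⁻¹))
    have h2 : x * x * (e : G) = e * (x * x) := hEcomm _ hxx _ e.2
    have h3 := hEcomm _ e.2 _ ((mem_normalizer_iff.1 hxN _).1 e.2)
    symm
    calc x * ((e : G) * (x * e * x⁻¹)) = x * e * x⁻¹ * (x * x * e) * x⁻¹ := by group
      _ = x * e * x⁻¹ * (e * (x * x)) * x⁻¹ := by rw [h2]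
      _ = x * e * x⁻¹ * e * x := by group
      _ = e * (x * e * x⁻¹) * x := by rw [← h3]
  have hZ4 : 8 ≤ Nat.card Z * Nat.card Z := by
    have h := card_mul_index φ.ker
    rw [Subgroup.index_ker, hE8] at h
    rw [← h]
    exact Nat.mul_le_mul
      (Nat.card_le_card_of_injective (fun e => (⟨_, hker e.1 e.2⟩ : Z))
        fun a b e => Subtype.ext (Subtype.ext (congrArg (fun z : Z => (z : G)) e)))
      (Nat.card_le_card_of_injective (fun e => (⟨_, hran e.1 e.2⟩ : Z))
        fun a b e => Subtype.ext (Subtype.ext (congrArg (fun z : Z => (z : G)) e)))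
  have hZE : Z ≠ E := by
    intro h
    apply hxE
    refine H.cent_le ht fun a ha => ?_
    rw [← hE, ← h] at ha
    exact mem_centralizer_singleton_iff.1 (Subgroup.mem_inf.1 ha).2
  have hZ8 : Nat.card Z = 4 := by
    have hd : Nat.card Z ∣ 8 := hE8 ▸ card_dvd_of_le inf_le_left
    have hne : Nat.card Z ≠ 8 := fun h => hZE (eq_of_le_of_card_ge inf_le_left (by rw [h, hE8]))
    have := Nat.le_of_dvd (by norm_num) hd
    interval_cases hc : Nat.card Z <;> omega
  -- the central four group
  have hZS : ∀ u ∈ Z, ∀ g ∈ S, u * g = g * u := by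
    intro u hu g hg
    obtain ⟨huE, hux⟩ := Subgroup.mem_inf.1 hu
    by_cases hgE : g ∈ E
    · exact hEcomm u huE g hgE
    have hm : x⁻¹ * g ∈ E := by
      refine mem_subgroupOf.1 (show (⟨x, hxS⟩ : S)⁻¹ * ⟨g, hg⟩ ∈ E.subgroupOf S from ?_)
      rw [Subgroup.mul_mem_iff_of_index_two hidx, inv_mem_iff]
      exact iff_of_false (fun h => hxE (mem_subgroupOf.1 h)) (fun h => hgE (mem_subgroupOf.1 h))
    calc u * g = u * x * (x⁻¹ * g) := by group
      _ = x * (u * (x⁻¹ * g)) := by rw [mem_centralizer_singleton_iff.1 hux, mul_assoc]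
      _ = g * u := by rw [hEcomm u huE _ hm]; group
  have htZ : t ∈ Z := Subgroup.mem_inf.2 ⟨H.self_mem ht, mem_centralizer_singleton_iff.2 (by
    obtain ⟨a, -, rfl⟩ := Subgroup.mem_map.1 hxS
    exact (mem_centralizer_singleton_iff.1 a.2).symm)⟩
  have hsub : ∀ u ∈ Z, u ≠ 1 → core u ≤ S ∧ Z ≤ core u ∧ (∀ y ∈ core u, y * y = 1) ∧ orderOf u = 2 := by
    intro u hu hu1
    have hu2 : orderOf u = 2 := orderOf_eq_prime (by rw [pow_two]; exact hEsq u (Subgroup.mem_inf.1 hu).1) hu1
    have hSC : S ≤ centralizer ({u} : Set G) := fun g hg => mem_centralizer_singleton_iff.2 (hZS u hu g hg).symm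
    have hle : core u ≤ S := by
      obtain ⟨T', hT'⟩ := (hSp.of_equiv (subgroupOfEquivOfLe hSC).symm).exists_le_sylow
      have hTS : (T' : Subgroup (centralizer ({u} : Set G))).map (centralizer ({u} : Set G)).subtype = S := by
        refine (eq_of_le_of_card_ge (show S ≤ _ from fun g hg => Subgroup.mem_map.2 ⟨⟨g, hSC hg⟩, hT' (mem_subgroupOf.2 hg), rfl⟩) ?_).symm
        rw [card_map_of_injective (subtype_injective _), card_sylow_48 (H.card_cent u hu2) T', hS16]
      exact (Subgroup.map_mono (Cores.pCore_le_sylow T')).trans hTS.le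
    have hZle : Z ≤ core u := fun v hv => H.cent_le hu2 fun a ha => (hZS v hv a (hle ha)).symm
    refine ⟨hle, hZle, helem u hu2 ?_, hu2⟩
    by_contra hall
    push Not at hall
    have hsub : Z ≤ zpowers u := by
      intro v hv
      by_cases hv1 : v = 1
      · rw [hv1]; exact one_mem _
      rw [hall v (hZle hv) (orderOf_eq_prime (by rw [pow_two]; exact hEsq v (Subgroup.mem_inf.1 hv).1) hv1)]
      exact mem_zpowers u
    have := card_le_of_le hsub
    rw [hZ8, Nat.card_zpowers, hu2] at this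
    omega
  let fs : Subgroup G → Finset G := fun K => Finset.univ.filter fun y => y ∈ K
  have hfc : ∀ K, (fs K).card = Nat.card K := fun K => by
    simp only [fs, ← Fintype.card_subtype, ← Nat.card_eq_fintype_card]
  obtain ⟨v, hv, hv1, hvt⟩ : ∃ v ∈ Z, v ≠ 1 ∧ v ≠ t := by
    by_contra hall
    push Not at hall
    have hle : fs Z ⊆ {1, t} := fun y hy => by
      simp only [fs, Finset.mem_filter] at hy
      rw [Finset.mem_insert, Finset.mem_singleton]
      by_cases h : y = 1
      · exact Or.inl h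
      · exact Or.inr (hall y hy.2 h)
    have := (Finset.card_le_card hle).trans Finset.card_le_two
    rw [hfc, hZ8] at this
    omega
  have ht1 : t ≠ 1 := fun e => by rw [e, orderOf_one] at ht; omega
  have htv : t * v ∈ Z := mul_mem htZ hv
  have htv1 : t * v ≠ 1 := fun e => hvt (by
    rw [← inv_eq_of_mul_eq_one_right e, hinv hEsq t (H.self_mem ht)])
  have htvt : t * v ≠ t := fun e => hv1 (mul_eq_left.1 e)
  have htvv : t * v ≠ v := fun e => ht1 (mul_eq_right.1 e)
  obtain ⟨hb1, hb2, hb3, hb4⟩ := hsub v hv hv1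
  obtain ⟨hc1, hc2, hc3, hc4⟩ := hsub (t * v) htv htv1
  have hmeet : ∀ A B : Subgroup G, Nat.card A = 8 → Nat.card B = 8 → Z ≤ A → Z ≤ B → A ≠ B → A ⊓ B = Z := by
    intro A B hA hB hZA hZB hne
    refine (eq_of_le_of_card_ge (le_inf hZA hZB) ?_).symm
    have hd : Nat.card (A ⊓ B : Subgroup G) ∣ 8 := hA ▸ card_dvd_of_le inf_le_left
    have hne8 : Nat.card (A ⊓ B : Subgroup G) ≠ 8 := fun h => hne
      ((eq_of_le_of_card_ge inf_le_left (by rw [h, hA])).symm.trans
        (eq_of_le_of_card_ge inf_le_right (by rw [h, hB])))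
    have h4 : 4 ∣ Nat.card (A ⊓ B : Subgroup G) := hZ8 ▸ card_dvd_of_le (le_inf hZA hZB)
    have := Nat.le_of_dvd (by norm_num) hd
    rw [hZ8]
    obtain ⟨i, hi⟩ := h4
    have hi' : i = 1 ∨ i = 2 := by
      rcases i with _ | _ | _ | i
      · have := Nat.card_pos (α := (A ⊓ B : Subgroup G)); omega
      · exact Or.inl rfl
      · exact Or.inr rfl
      · omega
    rcases hi' with rfl | rfl <;> omega
  have hB8 := H.card_core' hb4
  have hC8 := H.card_core' hc4
  have hZE' : Z ≤ E := inf_le_left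
  have hab : E ≠ core v := fun e => hvt (H.core_inj ht hb4 e.symm)
  have hac : E ≠ core (t * v) := fun e => htvt (H.core_inj ht hc4 e.symm)
  have hbc : core v ≠ core (t * v) := fun e => htvv (H.core_inj hb4 hc4 e.symm)
  have hfi : ∀ A B : Subgroup G, fs A ∩ fs B = fs (A ⊓ B) := fun A B => by
    ext y; simp [fs, Subgroup.mem_inf]
  have h1 := Finset.card_union_add_card_inter (fs E) (fs (core v))
  rw [hfi, hmeet E _ hE8 hB8 hZE' hb2 hab, hfc, hfc, hfc, hE8, hB8, hZ8] at h1
  have h2 := Finset.card_union_add_card_inter (fs E ∪ fs (core v)) (fs (core (t * v)))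
  rw [Finset.union_inter_distrib_right, hfi, hfi, hmeet E _ hE8 hC8 hZE' hc2 hac,
    hmeet _ _ hB8 hC8 hb2 hc2 hbc, Finset.union_self, hfc, hfc, hC8, hZ8] at h2
  have hU : fs E ∪ fs (core v) ∪ fs (core (t * v)) = fs S := by
    refine Finset.eq_of_subset_of_card_le ?_ (by rw [hfc, hS16]; omega)
    intro y hy
    simp only [fs, Finset.mem_union, Finset.mem_filter, Finset.mem_univ, true_and] at hy ⊢
    rcases hy with (h | h) | h
    exacts [hES h, hb1 h, hc1 h]
  have hSsq : ∀ y ∈ S, y * y = 1 := by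
    intro y hy
    have : y ∈ fs E ∪ fs (core v) ∪ fs (core (t * v)) := by rw [hU]; simp [fs, hy]
    simp only [fs, Finset.mem_union, Finset.mem_filter, Finset.mem_univ, true_and] at this
    rcases this with (h | h) | h
    exacts [hEsq y h, hb3 y h, hc3 y h]
  apply hZE
  refine le_antisymm inf_le_left fun e he => Subgroup.mem_inf.2 ⟨he, mem_centralizer_singleton_iff.2 ?_⟩
  have := hSsq _ (mul_mem hxS (hES he))
  rw [mul_eq_one_iff_inv_eq, mul_inv_rev, hinv hSsq x hxS, hinv hEsq e he] at this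
  exact this

variable [IsSimpleGroup G]

/-- The model of the centralizer of an involution. -/
theorem Invols.exists_loc' (H : Invols G) {t : G} (ht : orderOf t = 2) :
    ∃ ψ : GLTwoThree.Q → G, GLTwoThree.Loc ψ := by
  classical
  haveI : Fact (Nat.Prime 2) := ⟨Nat.prime_two⟩
  have F := H.facts ht
  have hu : ∀ P R : Sylow 2 (centralizer ({t} : Set G)), P ≠ R → ∀ x y,
      x ∈ (P : Subgroup (centralizer ({t} : Set G))) ⊓ (R : Subgroup (centralizer ({t} : Set G))) →
      y ∈ (P : Subgroup (centralizer ({t} : Set G))) ⊓ (R : Subgroup (centralizer ({t} : Set G))) →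
      orderOf x = 2 → orderOf y = 2 → x ∈ zpowers y := by
    intro P R hPR x y hx hy hx2 hy2
    rw [F.inter P R hPR] at hx hy
    have key : ∀ a : centralizer ({t} : Set G), a ∈ Cfsg.pCore 2 (centralizer ({t} : Set G)) →
        orderOf a = 2 → a = self' t := fun a ha ha2 =>
      Subtype.ext (H.unique_involution ht (mem_core_iff.2 ⟨a, ha, rfl⟩) (by rw [Subgroup.orderOf_coe, ha2]))
    rw [key x hx hx2, key y hy hy2]
    exact mem_zpowers _
  rcases Cfsg.Agent.S3304.main (centralizer ({t} : Set G)) F.cent_core hu with ⟨P, hP⟩ | ⟨⟨ec⟩⟩ | ⟨-, -, -, hQ⟩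
  · exact absurd hP (F.not_normal P)
  · obtain ⟨ψ, hψ, -⟩ := GLTwoThree.exists_loc ht ec
    exact ⟨ψ, hψ⟩
  exfalso
  have hQ2 : ∀ a : QuaternionGroup 4, a * a = 1 → a = 1 ∨ a = QuaternionGroup.a 4 := by decide +kernel
  have hsingle : ∀ a : centralizer ({t} : Set G), orderOf a = 2 → a = self' t := by
    intro a ha
    obtain ⟨P, hP⟩ := (IsPGroup.of_card (n := 1) (by rw [Nat.card_zpowers, ha, pow_one]) :
      IsPGroup 2 (zpowers a)).exists_le_sylow
    obtain ⟨eP⟩ := hQ P
    have hsP : self' t ∈ (P : Subgroup (centralizer ({t} : Set G))) :=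
      Cores.pCore_le_sylow P F.mem_core
    have himg : ∀ b : (P : Subgroup (centralizer ({t} : Set G))), orderOf b = 2 → eP b = QuaternionGroup.a 4 := by
      intro b hb
      have hbb : b * b = 1 := by
        have h := pow_orderOf_eq_one b
        rwa [hb, pow_two] at h
      refine (hQ2 (eP b) (by rw [← map_mul, hbb, map_one])).resolve_left
        fun e => ?_
      rw [← map_one eP] at e
      rw [eP.injective e, orderOf_one] at hb
      omega
    have h1 := himg ⟨a, hP (mem_zpowers a)⟩ (by rw [← Subgroup.orderOf_coe]; exact ha)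
    have h2 := himg ⟨self' t, hsP⟩ (by rw [← Subgroup.orderOf_coe, ← Subgroup.orderOf_coe]; exact ht)
    exact congrArg Subtype.val (eP.injective (h1.trans h2.symm))
  have hiso : Cfsg.IsIsolatedInvolution t := by
    refine ⟨ht, fun g hc => ?_⟩
    exact congrArg Subtype.val (hsingle ⟨g * t * g⁻¹, mem_centralizer_singleton_iff.2 hc.eq.symm⟩
      (by rw [← Subgroup.orderOf_coe]; exact ((MulAut.conj g).orderOf_eq t).trans ht))
  have hG : ¬ IsMulCommutative G := SmallGroups.not_isMulCommutative_of_not_prime (by rw [H.card]; norm_num)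
  haveI : (Cfsg.oddCore G).Normal := by
    haveI := CfsgLib.Cores.pPrimeCore_characteristic (G := G) 2
    exact (inferInstance : (Cfsg.pPrimeCore 2 G).Normal)
  have hO : Cfsg.oddCore G = ⊥ := by
    refine (IsSimpleGroup.eq_bot_or_eq_top_of_normal _ inferInstance).resolve_right fun h => ?_
    have h2 := CfsgLib.Cores.not_dvd_card_pPrimeCore (G := G) 2
    rw [show Cfsg.pPrimeCore 2 G = ⊤ from h, card_top] at h2
    exact h2 (ht ▸ _root_.orderOf_dvd_natCard t)
  have hZ := CfsgLib.Invol.zstar_center hiso hO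
  rw [SmallGroups.eq_bot_or_comm_of_centre hG, mem_bot] at hZ
  rw [hZ, orderOf_one] at ht
  omega

end CfsgLib.SmallSimple.Degree6000.Five616
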