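import Cfsg.Agent.Lib.SmallGroups.PrimeOrderChar
import Cfsg.Agent.Lib.SmallGroups.InvertingInvolution
import Cfsg.Agent.Lib.SmallGroups.MElevenDegrees.Main
import Cfsg.Agent.Lib.SmallSimple.Band6232.Tools
import Cfsg.Agent.Lib.Char.ClassAlgebra

/-!
The characters not vanishing at an element of order thirteen of a simple group of order 5616, the
relation between their values at the other elements and the count of pairs with product of order thirteen.
-/

set_option autoImplicit false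
set_option linter.style.haveILetI false
set_option linter.unusedSectionVars false

noncomputable section

open scoped ComplexConjugate

namespace CfsgLib.SmallSimple.Degree6000.Five616

open Subgroup CfsgLib CfsgLib.SmallGroups CfsgLib.InvolChar Cfsg

variable {G : Type*} [Group G] [Fintype G]

/-- The element of order thirteen and the characters not vanishing at it. -/
structure Data (G : Type*) [Group G] [Fintype G] where
  /-- the element -/
  x : G
  /-- the character of degree twelve -/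
  u : IrrCharacter G
  /-- the character of degree twenty-seven -/
  v : IrrCharacter G
  /-- the exceptional characters -/
  W : Finset (IrrCharacter G)
  orderOf_x : orderOf x = 13
  cent_x : centralizer ({x} : Set G) = zpowers x
  card_norm : Nat.card (normalizer ((zpowers x : Subgroup G) : Set G)) = 39
  u_ne : u ≠ CfsgLib.Char.irrOne
  v_ne : v ≠ CfsgLib.Char.irrOne
  uv_ne : u ≠ v
  notMem : ∀ w ∈ W, w ≠ CfsgLib.Char.irrOne ∧ w ≠ u ∧ w ≠ v
  card_W : W.card = 4
  deg_u : (u : G → ℂ) 1 = 12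
  deg_v : (v : G → ℂ) 1 = 27
  deg_W : ∀ w ∈ W, (w : G → ℂ) 1 = 16
  u_x : (u : G → ℂ) x = -1
  v_x : (v : G → ℂ) x = 1
  W_x : ∑ w ∈ W, (w : G → ℂ) x = -1
  other : ∀ χ : IrrCharacter G, χ ≠ CfsgLib.Char.irrOne → χ ≠ u → χ ≠ v → χ ∉ W →
    (χ : G → ℂ) x = 0 ∧ ∃ d : ℕ, (χ : G → ℂ) 1 = d ∧ 13 ∣ d
  W_val : ∀ g : G, ¬ 13 ∣ orderOf g → ∀ w ∈ W,
    (w : G → ℂ) g = 1 - (u : G → ℂ) g + (v : G → ℂ) g

theorem degree_cases : ∀ d ∈ Nat.divisors 5616, d * d ≤ 5616 → d ≠ 1 →
    (d % 13 = 1 → d = 27) ∧ (d % 13 = 12 → d = 12) ∧ (d % 13 = 10 → d = 36) ∧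
      (d % 13 = 3 → d = 3 ∨ d = 16) := by decide +kernel

variable [IsSimpleGroup G]

theorem not_comm (hG : Nat.card G = 5616) : ¬ IsMulCommutative G :=
  SmallGroups.not_isMulCommutative_of_not_prime (by rw [hG]; norm_num)

set_option maxHeartbeats 800000 in
theorem exists_data (hG : Nat.card G = 5616) : Nonempty (Data G) := by
  classical
  haveI : Fact (Nat.Prime 13) := ⟨by norm_num⟩
  have hna := not_comm hG
  obtain ⟨P⟩ : Nonempty (Sylow 13 G) := inferInstance
  have hP := Band6232.card_of_prime (m := 432) (by rw [hG]) (by norm_num) P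
  obtain ⟨k, r, a, hmem, hk, hku, hN, hC⟩ :=
    Band6232.options (m := 432) hna hG (by norm_num) (by norm_num) P [(144, 3)] (by decide +kernel)
  simp only [List.mem_singleton, Prod.mk.injEq] at hmem
  obtain ⟨rfl, rfl⟩ := hmem
  obtain rfl : a = 1 := by omega
  obtain ⟨x, hx, hPx⟩ := exists_zpowers_of_card_prime hP
  have hCx : centralizer ({x} : Set G) = zpowers x := by
    rw [← centralizer_closure, ← zpowers_eq_closure]
    exact (eq_of_le_of_card_ge (le_centralizer_iff_isMulCommutative.2 inferInstance)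
      (by rw [Nat.card_zpowers, hx, ← hPx, hC])).symm
  have hNx : Nat.card (normalizer ((zpowers x : Subgroup G) : Set G)) = 13 * 3 := by rw [← hPx, hN]
  obtain ⟨D⟩ := PrimeOrderChar.exists_data_of (PrimeOrderChar.linear_trivial (G := G) hna) 13 3 x hx hCx hNx
    le_rfl (Or.inr (Or.inr ⟨rfl, rfl⟩))
  have h10 : (1 : ZMod 13) ≠ 0 := one_ne_zero
  have hbound : ∀ χ : IrrCharacter G, D.d χ * D.d χ ≤ 5616 := by
    intro χ
    have h := CfsgLib.Char.sum_degree_sq (G := G)
    simp only [D.hd, hG, pow_two] at h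
    have h' : ∑ χ : IrrCharacter G, D.d χ * D.d χ = 5616 := by exact_mod_cast h
    rw [← h']
    exact Finset.single_le_sum (f := fun χ => D.d χ * D.d χ) (fun _ _ => Nat.zero_le _) (Finset.mem_univ χ)
  have hd : ∀ χ, χ ≠ CfsgLib.Char.irrOne → D.d χ ∈ Nat.divisors 5616 ∧ D.d χ ≠ 1 := fun χ hχ =>
    ⟨Nat.mem_divisors.2 ⟨hG ▸ (D.proper χ hχ).1, by norm_num⟩, (D.proper χ hχ).2⟩
  have hKne : ∀ χ ∈ D.K, χ ≠ CfsgLib.Char.irrOne := fun χ hχ e => D.one_notMem (e ▸ hχ)
  have hK : ∀ χ ∈ D.K, (D.c 1 χ = 1 ∧ D.d χ = 27) ∨ (D.c 1 χ = -1 ∧ D.d χ = 12) := by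
    intro χ hχ
    obtain ⟨m, hm⟩ := D.degree χ
    rw [← Finset.add_sum_erase _ _ (Finset.mem_univ (0 : ZMod 13)), D.c_zero, zero_add,
      Finset.sum_congr rfl (fun j hj => D.c_K j (Finset.ne_of_mem_erase hj) χ hχ), Finset.sum_const,
      Finset.card_erase_of_mem (Finset.mem_univ _), Finset.card_univ, ZMod.card, nsmul_eq_mul] at hm
    have hc := degree_cases _ (hd χ (hKne χ hχ)).1 (hbound χ) (hd χ (hKne χ hχ)).2
    rcases D.pm 1 h10 χ (Or.inl hχ) with h | h <;> rw [h] at hm <;> push_cast at hm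
    · exact Or.inl ⟨h, hc.1 (by omega)⟩
    · exact Or.inr ⟨h, hc.2.1 (by omega)⟩
  have hw : ∀ j, j ≠ 0 → (D.c j (D.w j) = 1 ∧ D.d (D.w j) = 36) ∨
      (D.c j (D.w j) = -1 ∧ (D.d (D.w j) = 3 ∨ D.d (D.w j) = 16)) := by
    intro j hj
    obtain ⟨m, hm⟩ := D.degree (D.w j)
    rw [D.sum_w j hj] at hm
    have hc := degree_cases _ (hd _ (D.w_notMem j hj).2).1 (hbound _) (hd _ (D.w_notMem j hj).2).2
    rcases D.pm j hj _ (Or.inr rfl) with h | h <;> rw [h] at hm <;> push_cast at hm
    · exact Or.inl ⟨h, hc.2.2.1 (by omega)⟩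
    · exact Or.inr ⟨h, hc.2.2.2 (by omega)⟩
  obtain ⟨a, b, hab, hKab⟩ := Finset.card_eq_two.1 (show D.K.card = 2 by rw [D.card_K])
  have ha : a ∈ D.K := hKab ▸ Finset.mem_insert_self _ _
  have hb : b ∈ D.K := hKab ▸ Finset.mem_insert_of_mem (Finset.mem_singleton_self _)
  have heq : ∀ j, j ≠ 0 → 1 + (D.c 1 a * D.d a + D.c 1 b * D.d b) + D.c j (D.w j) * (D.d (D.w j) : ℤ) = 0 := by
    intro j hj
    have h := D.degree_eq hj
    rwa [hKab, Finset.sum_pair hab, D.c_K j hj a ha, D.c_K j hj b hb] at h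
  obtain ⟨u, v, hu, hv, hcu, hcv, hdu, hdv, hKuv, hwall⟩ :
      ∃ u v, u ∈ D.K ∧ v ∈ D.K ∧ D.c 1 u = -1 ∧ D.c 1 v = 1 ∧ D.d u = 12 ∧ D.d v = 27 ∧ D.K = {u, v} ∧
        ∀ j, j ≠ 0 → D.c j (D.w j) = -1 ∧ D.d (D.w j) = 16 := by
    rcases hK a ha with ⟨ea, da⟩ | ⟨ea, da⟩ <;> rcases hK b hb with ⟨eb, db⟩ | ⟨eb, db⟩
    · exfalso
      have h := heq 1 h10
      rw [ea, da, eb, db] at h
      rcases hw 1 h10 with ⟨ew, dw⟩ | ⟨ew, dw | dw⟩ <;> rw [ew, dw] at h <;> norm_num at h
    · refine ⟨b, a, hb, ha, eb, ea, db, da, by rw [hKab, Finset.pair_comm], fun j hj => ?_⟩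
      have h := heq j hj
      rw [ea, da, eb, db] at h
      rcases hw j hj with ⟨ew, dw⟩ | ⟨ew, dw | dw⟩ <;> rw [ew, dw] at h <;> norm_num at h
      exact ⟨ew, dw⟩
    · refine ⟨a, b, ha, hb, ea, eb, da, db, hKab, fun j hj => ?_⟩
      have h := heq j hj
      rw [ea, da, eb, db] at h
      rcases hw j hj with ⟨ew, dw⟩ | ⟨ew, dw | dw⟩ <;> rw [ew, dw] at h <;> norm_num at h
      exact ⟨ew, dw⟩
    · exfalso
      have h := heq 1 h10
      rw [ea, da, eb, db] at h
      rcases hw 1 h10 with ⟨ew, dw⟩ | ⟨ew, dw | dw⟩ <;> rw [ew, dw] at h <;> norm_num at h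
  set J : Finset (ZMod 13) := Finset.univ.erase 0 with hJ
  have hJc : J.card = 12 := by rw [hJ, Finset.card_erase_of_mem (Finset.mem_univ _), Finset.card_univ, ZMod.card]
  set W : Finset (IrrCharacter G) := J.image D.w with hW
  have hWne : ∀ w ∈ W, w ∉ D.K ∧ w ≠ CfsgLib.Char.irrOne := by
    intro w hwW
    obtain ⟨j, hj, rfl⟩ := Finset.mem_image.1 hwW
    exact D.w_notMem j (Finset.ne_of_mem_erase hj)
  have hcw : ∀ w ∈ W, ∀ i, i ≠ 0 → D.c i w = if D.w i = w then -1 else 0 := by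
    intro w hwW i hi
    split_ifs with h
    · rw [← h]; exact (hwall i hi).1
    · by_contra hne
      rcases D.support i hi w hne with e | e | e
      · exact (hWne w hwW).2 e
      · exact (hWne w hwW).1 e
      · exact h e.symm
  have hfib : ∀ w ∈ W, (J.filter fun i => D.w i = w).card = 3 := by
    intro w hwW
    obtain ⟨j, hj, rfl⟩ := Finset.mem_image.1 hwW
    have h := D.sum_w j (Finset.ne_of_mem_erase hj)
    rw [← Finset.add_sum_erase _ _ (Finset.mem_univ (0 : ZMod 13)), D.c_zero, zero_add,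
      (hwall j (Finset.ne_of_mem_erase hj)).1, ← hJ,
      Finset.sum_congr rfl (g := fun i => if D.w i = D.w j then (-1 : ℤ) else 0)
        (fun i hi => hcw _ hwW i (Finset.ne_of_mem_erase hi)), ← Finset.sum_filter, Finset.sum_const,
      nsmul_eq_mul] at h
    push_cast at h
    rw [← hJ] at h
    omega
  have hWc : W.card = 4 := by
    have h := Finset.card_eq_sum_card_image D.w J
    rw [hJc, ← hW, Finset.sum_congr rfl hfib, Finset.sum_const, smul_eq_mul] at h
    omega
  have hψ : ∑ j ∈ J, (ZMod.stdAddChar j : ℂ) = -1 := by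
    have h : ∑ j : ZMod 13, (ZMod.stdAddChar j : ℂ) = 0 := by
      have := AddChar.sum_mulShift (R := ZMod 13) (ψ := ZMod.stdAddChar) (1 : ZMod 13)
        (ZMod.isPrimitive_stdAddChar 13)
      simpa using this
    rw [← Finset.add_sum_erase _ _ (Finset.mem_univ (0 : ZMod 13)), AddChar.map_zero_eq_one, ← hJ] at h
    linear_combination h
  have hval : ∀ χ : IrrCharacter G, (χ : G → ℂ) x = - ∑ j ∈ J, (D.c j χ : ℂ) * ZMod.stdAddChar j := fun χ => by
    rw [D.value, ← Finset.add_sum_erase _ _ (Finset.mem_univ (0 : ZMod 13)), D.c_zero, Int.cast_zero,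
      zero_mul, zero_add, hJ]
  have hKx : ∀ χ ∈ D.K, (χ : G → ℂ) x = (D.c 1 χ : ℂ) := fun χ hχ => by
    rw [hval, Finset.sum_congr rfl (g := fun j => (D.c 1 χ : ℂ) * ZMod.stdAddChar j)
      (fun j hj => by rw [D.c_K j (Finset.ne_of_mem_erase hj) χ hχ]), ← Finset.mul_sum, hψ]
    ring
  refine ⟨{
    x := x, u := u, v := v, W := W
    orderOf_x := hx
    cent_x := hCx
    card_norm := by rw [hNx]
    u_ne := hKne u hu
    v_ne := hKne v hv
    uv_ne := fun e => by rw [e, hcv] at hcu; norm_num at hcu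
    notMem := fun w hw => ⟨(hWne w hw).2, fun e => (hWne w hw).1 (e ▸ hu), fun e => (hWne w hw).1 (e ▸ hv)⟩
    card_W := hWc
    deg_u := by rw [D.hd, hdu]; norm_num
    deg_v := by rw [D.hd, hdv]; norm_num
    deg_W := ?_
    u_x := by rw [hKx u hu, hcu]; norm_num
    v_x := by rw [hKx v hv, hcv]; norm_num
    W_x := ?_
    other := ?_
    W_val := ?_ }⟩
  · intro w hwW
    obtain ⟨j, hj, rfl⟩ := Finset.mem_image.1 hwW
    rw [D.hd, (hwall j (Finset.ne_of_mem_erase hj)).2]
    norm_num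
  · rw [← hψ, ← Finset.sum_fiberwise_of_maps_to (g := D.w) (fun j hj => Finset.mem_image_of_mem D.w hj)
      (fun j => (ZMod.stdAddChar j : ℂ)), ← hW]
    refine Finset.sum_congr rfl fun w hwW => ?_
    rw [hval, Finset.sum_filter, ← Finset.sum_neg_distrib]
    refine Finset.sum_congr rfl fun j hj => ?_
    rw [hcw w hwW j (Finset.ne_of_mem_erase hj)]
    split_ifs <;> simp
  · intro χ h1 h2 h3 h4
    have hc : ∀ j, D.c j χ = 0 := by
      intro j
      rcases eq_or_ne j 0 with rfl | hj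
      · exact D.c_zero χ
      by_contra hne
      rcases D.support j hj χ hne with e | e | e
      · exact h1 e
      · rw [hKuv, Finset.mem_insert, Finset.mem_singleton] at e
        exact e.elim h2 h3
      · exact h4 (e ▸ Finset.mem_image_of_mem D.w (Finset.mem_erase.2 ⟨hj, Finset.mem_univ _⟩))
    refine ⟨by rw [hval]; simp [hc], D.d χ, D.hd χ, ?_⟩
    obtain ⟨m, hm⟩ := D.degree χ
    simp only [hc, Finset.sum_const_zero, sub_zero] at hm
    omega
  · intro g hg w hwW
    obtain ⟨j, hj, rfl⟩ := Finset.mem_image.1 hwW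
    have hj' := Finset.ne_of_mem_erase hj
    have h := D.vanish j g (fun h hh => by
      have h1 : orderOf (h⁻¹ * g * h) = orderOf g := by
        have := (MulAut.conj h⁻¹).orderOf_eq g
        rwa [MulAut.conj_apply, inv_inv] at this
      have h2 := Subgroup.orderOf_dvd_natCard _ hh
      rw [Nat.card_zpowers, hx, h1] at h2
      rcases (Nat.dvd_prime (Fact.out : Nat.Prime 13)).1 h2 with e | e
      · exact orderOf_eq_one_iff.1 (h1.trans e)
      · exact absurd e.symm.dvd hg)
    have hnu : D.w j ≠ u ∧ D.w j ≠ v := ⟨fun e => (D.w_notMem j hj').1 (e ▸ hu),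
      fun e => (D.w_notMem j hj').1 (e ▸ hv)⟩
    rw [← Finset.sum_subset (Finset.subset_univ
        (insert CfsgLib.Char.irrOne (insert u (insert v {D.w j})))) (fun χ _ hχ => by
          simp only [Finset.mem_insert, Finset.mem_singleton, not_or] at hχ
          have : D.c j χ = 0 := by
            by_contra hne
            rcases D.support j hj' χ hne with e | e | e
            · exact hχ.1 e
            · rw [hKuv, Finset.mem_insert, Finset.mem_singleton] at e
              exact e.elim hχ.2.1 hχ.2.2.1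
            · exact hχ.2.2.2 e
          rw [this, Int.cast_zero, zero_mul]),
      Finset.sum_insert, Finset.sum_insert, Finset.sum_pair hnu.2.symm, D.c_one j hj', D.c_K j hj' u hu,
      D.c_K j hj' v hv, hcu, hcv, (hwall j hj').1, CfsgLib.Char.irrOne_apply] at h
    · push_cast at h
      linear_combination -h
    · simp only [Finset.mem_insert, Finset.mem_singleton, not_or]
      exact ⟨fun e => by rw [e, hcv] at hcu; norm_num at hcu, hnu.1.symm⟩
    · simp only [Finset.mem_insert, Finset.mem_singleton, not_or]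
      exact ⟨(hKne u hu).symm, (hKne v hv).symm, (D.w_notMem j hj').2.symm⟩

namespace Data

variable (D : Data G)

/-- The only characters contributing at the element of order thirteen. -/
theorem sum_split (F : IrrCharacter G → ℂ)
    (hF : ∀ χ, χ ≠ CfsgLib.Char.irrOne → χ ≠ D.u → χ ≠ D.v → χ ∉ D.W → F χ = 0) :
    ∑ χ, F χ = F CfsgLib.Char.irrOne + F D.u + F D.v + ∑ w ∈ D.W, F w := by
  classical
  rw [← Finset.sum_subset (Finset.subset_univ
    (insert CfsgLib.Char.irrOne (insert D.u (insert D.v D.W)))) (fun χ _ hχ => by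
      simp only [Finset.mem_insert, not_or] at hχ
      exact hF χ hχ.1 hχ.2.1 hχ.2.2.1 hχ.2.2.2),
    Finset.sum_insert, Finset.sum_insert, Finset.sum_insert]
  · ring
  · exact fun h => (D.notMem _ h).2.2 rfl
  · simp only [Finset.mem_insert, not_or]
    exact ⟨D.uv_ne, fun h => (D.notMem _ h).2.1 rfl⟩
  · simp only [Finset.mem_insert, not_or]
    exact ⟨D.u_ne.symm, D.v_ne.symm, fun h => (D.notMem _ h).1 rfl⟩

/-- The pairs from two classes with product the element of order thirteen. -/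
theorem pairs (hG : Nat.card G = 5616) {a b : G} (ha : ¬ 13 ∣ orderOf a) (hb : ¬ 13 ∣ orderOf b) :
    (Nat.card {q : G × G // IsConj a q.1 ∧ IsConj b q.2 ∧ q.1 * q.2 = D.x} : ℂ) *
        ((Nat.card (centralizer ({a} : Set G)) : ℂ) * Nat.card (centralizer ({b} : Set G))) =
      5616 - 468 * ((D.u : G → ℂ) a * (D.u : G → ℂ) b) + 208 * ((D.v : G → ℂ) a * (D.v : G → ℂ) b) -
        351 * ((1 - (D.u : G → ℂ) a + (D.v : G → ℂ) a) * (1 - (D.u : G → ℂ) b + (D.v : G → ℂ) b)) := by
  have hcl : ∀ g : G, (Nat.card {y : G // IsConj g y} : ℂ) * Nat.card (centralizer ({g} : Set G)) = 5616 := by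
    intro g
    rw [CfsgLib.Char.card_isConj_eq_index, ← Nat.cast_mul, index_mul_card, hG]
    norm_num
  have hW : ∑ w ∈ D.W, (w : G → ℂ) a * (w : G → ℂ) b * conj ((w : G → ℂ) D.x) / (w : G → ℂ) 1 =
      -((1 - (D.u : G → ℂ) a + (D.v : G → ℂ) a) * (1 - (D.u : G → ℂ) b + (D.v : G → ℂ) b) / 16) := by
    rw [Finset.sum_congr rfl (g := fun w : IrrCharacter G => (1 - (D.u : G → ℂ) a + (D.v : G → ℂ) a) *
        (1 - (D.u : G → ℂ) b + (D.v : G → ℂ) b) / 16 * conj ((w : G → ℂ) D.x)) fun w hw => by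
      rw [D.deg_W w hw, D.W_val a ha w hw, D.W_val b hb w hw]; ring,
      ← Finset.mul_sum, ← map_sum, D.W_x, map_neg, map_one]
    ring
  rw [CfsgLib.Char.card_classProduct_eq, D.sum_split _ (fun χ h1 h2 h3 h4 => by
      rw [(D.other χ h1 h2 h3 h4).1, map_zero, mul_zero, zero_div]), hW, D.deg_u, D.deg_v, D.u_x, D.v_x, hG]
  simp only [CfsgLib.Char.irrOne_apply, map_neg, map_one]
  calc _ = (Nat.card {y : G // IsConj a y} : ℂ) * Nat.card (centralizer ({a} : Set G)) *
        ((Nat.card {y : G // IsConj b y} : ℂ) * Nat.card (centralizer ({b} : Set G))) / 5616 *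
      (1 - (D.u : G → ℂ) a * (D.u : G → ℂ) b / 12 + (D.v : G → ℂ) a * (D.v : G → ℂ) b / 27 -
        (1 - (D.u : G → ℂ) a + (D.v : G → ℂ) a) * (1 - (D.u : G → ℂ) b + (D.v : G → ℂ) b) / 16) := by
        push_cast; ring
    _ = _ := by rw [hcl, hcl]; ring

/-- The values bound the centralizer. -/
theorem norm_le {g : G} (hg : ¬ 13 ∣ orderOf g) {a b : ℤ} (ha : (D.u : G → ℂ) g = a)
    (hb : (D.v : G → ℂ) g = b) :
    1 + a * a + b * b + 4 * ((1 - a + b) * (1 - a + b)) ≤ (Nat.card (centralizer ({g} : Set G)) : ℤ) := by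
  classical
  have h := CfsgLib.Char.second_orthogonality g g
  rw [if_pos (IsConj.refl g)] at h
  simp only [Complex.mul_conj] at h
  have h' : ∑ χ : IrrCharacter G, Complex.normSq ((χ : G → ℂ) g) =
      (Nat.card (centralizer ({g} : Set G)) : ℝ) := by exact_mod_cast h
  have hle : ∑ χ ∈ insert CfsgLib.Char.irrOne (insert D.u (insert D.v D.W)),
      Complex.normSq ((χ : G → ℂ) g) ≤ (Nat.card (centralizer ({g} : Set G)) : ℝ) :=
    h' ▸ Finset.sum_le_sum_of_subset_of_nonneg (Finset.subset_univ _) fun χ _ _ => Complex.normSq_nonneg _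
  rw [Finset.sum_insert, Finset.sum_insert, Finset.sum_insert, CfsgLib.Char.irrOne_apply, ha, hb,
    Finset.sum_congr rfl (g := fun _ => ((1 - a + b : ℤ) : ℝ) * ((1 - a + b : ℤ) : ℝ)) fun w hw => by
      rw [D.W_val g hg w hw, ha, hb, show (1 : ℂ) - a + b = ((1 - a + b : ℤ) : ℂ) by push_cast; ring,
        Complex.normSq_intCast],
    Finset.sum_const, D.card_W, Complex.normSq_intCast, Complex.normSq_intCast, map_one, nsmul_eq_mul] at hle
  · push_cast at hle
    have : ((1 + a * a + b * b + 4 * ((1 - a + b) * (1 - a + b)) : ℤ) : ℝ) ≤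
        ((Nat.card (centralizer ({g} : Set G)) : ℤ) : ℝ) := by push_cast; linarith
    exact_mod_cast this
  · exact fun h => (D.notMem _ h).2.2 rfl
  · simp only [Finset.mem_insert, not_or]
    exact ⟨D.uv_ne, fun h => (D.notMem _ h).2.1 rfl⟩
  · simp only [Finset.mem_insert, not_or]
    exact ⟨D.u_ne.symm, D.v_ne.symm, fun h => (D.notMem _ h).1 rfl⟩

end Data

end CfsgLib.SmallSimple.Degree6000.Five616
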