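import Cfsg.Agent.Lib.SmallSimple.Degree6000.Five616.Chars
import Cfsg.Agent.Lib.Char.DefectZero
import Cfsg.Agent.Lib.SmallGroups.SmallPiece
import Cfsg.Agent.Lib.SmallGroups.PrimeRational
import Cfsg.Agent.Lib.MTwelveUnique.Common
import Cfsg.Agent.Lib.SmallSimple.AtMost1092.Local

/-!
In a simple group of order 5616 the centralizers of involutions have order 48 and those of their elements
of order three there have order six.
-/

set_option autoImplicit false
set_option linter.style.haveILetI false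
set_option linter.unusedSectionVars false

noncomputable section

open scoped ComplexConjugate

namespace CfsgLib.SmallSimple.Degree6000.Five616

open Subgroup CfsgLib CfsgLib.SmallGroups CfsgLib.InvolChar Cfsg

variable {G : Type*} [Group G] [Fintype G] [IsSimpleGroup G]

namespace Data

variable (D : Data G)

theorem deg_u' : deg D.u = 12 := by
  have h := deg_spec D.u
  rw [D.deg_u] at h
  exact_mod_cast h.symm

theorem deg_v' : deg D.v = 27 := by
  have h := deg_spec D.v
  rw [D.deg_v] at h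
  exact_mod_cast h.symm

theorem deg_W' {w : IrrCharacter G} (hw : w ∈ D.W) : deg w = 16 := by
  have h := deg_spec w
  rw [D.deg_W w hw] at h
  exact_mod_cast h.symm

include D in
theorem not_dvd_centralizer (hG : Nat.card G = 5616) {g : G} (hg : g ≠ 1) (h : ¬ 13 ∣ orderOf g) :
    ¬ 13 ∣ Nat.card (centralizer ({g} : Set G)) := by
  haveI : Fact (Nat.Prime 13) := ⟨by norm_num⟩
  intro h13
  obtain ⟨P⟩ : Nonempty (Sylow 13 G) := inferInstance
  have hP := Band6232.card_of_prime (m := 432) (by rw [hG]) (by norm_num) P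
  have hz : IsPGroup 13 (zpowers D.x) :=
    IsPGroup.of_card (n := 1) (by rw [Nat.card_zpowers, D.orderOf_x, pow_one])
  obtain ⟨Q, hQ⟩ := hz.exists_le_sylow
  have hQ13 : Nat.card (Q : Subgroup G) = 13 := Band6232.card_of_prime (m := 432) (by rw [hG]) (by norm_num) Q
  have := SmallPiece.orderOf_dvd_of_prime_dvd_centralizer Q hQ13 D.orderOf_x D.cent_x h13
  rcases (Nat.dvd_prime (Fact.out : Nat.Prime 13)).1 this with e | e
  · exact hg (orderOf_eq_one_iff.1 e)
  · exact h e.symm.dvd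

/-- No two involutions have product the element of order thirteen. -/
theorem no_pairs {t : G} (ht : orderOf t = 2) :
    Nat.card {q : G × G // IsConj t q.1 ∧ IsConj t q.2 ∧ q.1 * q.2 = D.x} = 0 := by
  rw [Nat.card_eq_zero]
  left
  refine ⟨fun ⟨⟨a, b⟩, ha, hb, hab⟩ => ?_⟩
  have hinv : ∀ c, IsConj t c → orderOf c = 2 := fun c hc => by
    obtain ⟨g, rfl⟩ := isConj_iff.1 hc
    exact ((MulAut.conj g).orderOf_eq t).trans ht
  have hsq : ∀ c, IsConj t c → c * c = 1 := fun c hc => by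
    rw [← pow_two, ← hinv c hc, pow_orderOf_eq_one]
  have hab' : a * b = D.x := hab
  have hax : a * D.x * a⁻¹ = D.x⁻¹ := by
    rw [← hab', ← mul_assoc a a, hsq a ha, one_mul, mul_inv_rev, inv_eq_of_mul_eq_one_right (hsq b hb)]
  have haN : a ∈ normalizer ((zpowers D.x : Subgroup G) : Set G) := by
    have hmap : (zpowers D.x).map (MulAut.conj a).toMonoidHom = zpowers D.x := by
      rw [MonoidHom.map_zpowers]
      show zpowers (a * D.x * a⁻¹) = _
      rw [hax, zpowers_inv]
    rw [mem_normalizer_iff]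
    intro y
    constructor
    · intro hy
      rw [← hmap]
      exact ⟨y, hy, rfl⟩
    · intro hy
      rw [← hmap] at hy
      obtain ⟨v, hv, hv'⟩ := hy
      rwa [← (MulAut.conj a).injective hv']
  have h := Subgroup.orderOf_dvd_natCard _ haN
  rw [hinv a ha, D.card_norm] at h
  norm_num at h

end Data

/-- No other values at an involution. -/
def solOK (C : ℕ) : Bool :=
  decide (¬ 2 ∣ C) || decide (13 ∣ C) ||
    (List.range 24).all fun i => (List.range 54).all fun j =>
      let A : ℤ := (i : ℤ) - 12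
      let B : ℤ := (j : ℤ) - 27
      decide ((12 - A) % 4 ≠ 0) || decide ((27 - B) % 4 ≠ 0) ||
        decide (5616 - 468 * (A * A) + 208 * (B * B) - 351 * ((1 - A + B) * (1 - A + B)) ≠ 0) ||
        decide ((C : ℤ) < 1 + A * A + B * B + 4 * ((1 - A + B) * (1 - A + B))) ||
        decide ((((5616 / C : ℕ) : ℤ) * A) % 12 ≠ 0) || decide ((((5616 / C : ℕ) : ℤ) * B) % 27 ≠ 0) ||
        decide ((((5616 / C : ℕ) : ℤ) * (1 - A + B)) % 16 ≠ 0) || (decide (C = 48) && decide (A = 4) && decide (B = 3))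

theorem solutions : ∀ C ∈ Nat.divisors 5616, solOK C = true := by decide +kernel

/-- The centralizers of involutions and the values there. -/
theorem invol_data (hG : Nat.card G = 5616) (D : Data G) {t : G} (ht : orderOf t = 2) :
    Nat.card (centralizer ({t} : Set G)) = 48 ∧ (D.u : G → ℂ) t = 4 ∧ (D.v : G → ℂ) t = 3 := by
  have hna := not_comm hG
  have htt : t * t = 1 := by rw [← pow_two, ← ht, pow_orderOf_eq_one]
  have ht1 : t ≠ 1 := fun e => by rw [e, orderOf_one] at ht; omega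
  have ht13 : ¬ 13 ∣ orderOf t := by rw [ht]; norm_num
  set A := intVal D.u htt with hA
  set B := intVal D.v htt with hB
  set C := Nat.card (centralizer ({t} : Set G)) with hC
  have hlin := PrimeOrderChar.linear_trivial (G := G) hna
  have hA' := intVal_spec D.u htt
  have hB' := intVal_spec D.v htt
  have hA4 := PrimeRational.four_dvd_deg_sub hlin D.u htt
  have hB4 := PrimeRational.four_dvd_deg_sub hlin D.v htt
  have hAlt := MTwelveUnique.sq_lt_deg_sq hna D.u D.u_ne ht1 hA'
  have hBlt := MTwelveUnique.sq_lt_deg_sq hna D.v D.v_ne ht1 hB'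
  rw [D.deg_u'] at hA4 hAlt
  rw [D.deg_v'] at hB4 hBlt
  rw [← hA] at hA' hA4 hAlt
  rw [← hB] at hB' hB4 hBlt
  push_cast at hA4 hB4 hAlt hBlt
  have heq := D.pairs hG ht13 ht13
  rw [D.no_pairs ht, Nat.cast_zero, zero_mul, hA', hB'] at heq
  have heq' : 5616 - 468 * (A * A) + 208 * (B * B) - 351 * ((1 - A + B) * (1 - A + B)) = 0 := by
    exact_mod_cast heq.symm
  have hnorm := D.norm_le ht13 hA' hB'
  have hdA := MTwelveUnique.deg_dvd_index_mul D.u hA' hC.symm
  have hdB := MTwelveUnique.deg_dvd_index_mul D.v hB' hC.symm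
  obtain ⟨w, hw⟩ := Finset.card_pos.1 (show 0 < D.W.card by rw [D.card_W]; norm_num)
  have hwv : (w : G → ℂ) t = ((1 - A + B : ℤ) : ℂ) := by
    rw [D.W_val t ht13 w hw, hA', hB']; push_cast; ring
  have hdW := MTwelveUnique.deg_dvd_index_mul w hwv hC.symm
  rw [hG, D.deg_u'] at hdA
  rw [hG, D.deg_v'] at hdB
  rw [hG, D.deg_W' hw] at hdW
  have hAb : -12 < A ∧ A < 12 := ⟨by nlinarith, by nlinarith⟩
  have hBb : -27 < B ∧ B < 27 := ⟨by nlinarith, by nlinarith⟩
  have hCd : C ∈ Nat.divisors 5616 := Nat.mem_divisors.2 ⟨hG ▸ card_subgroup_dvd_card _, by norm_num⟩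
  have hC2 : 2 ∣ C := ht ▸ Subgroup.orderOf_dvd_natCard _ (mem_centralizer_singleton_iff.2 (rfl : t * t = t * t))
  have h := solutions C hCd
  simp only [solOK, List.all_eq_true, List.mem_range, Bool.or_eq_true, Bool.and_eq_true,
    decide_eq_true_eq] at h
  rcases h with (h | h) | h
  · exact absurd hC2 h
  · exact absurd h (D.not_dvd_centralizer hG ht1 ht13)
  have h' := h (A + 12).toNat (by omega) (B + 27).toNat (by omega)
  rw [Int.toNat_of_nonneg (by omega), Int.toNat_of_nonneg (by omega), add_sub_cancel_right,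
    add_sub_cancel_right] at h'
  rcases h' with ((((((h | h) | h) | h) | h) | h) | h) | ⟨⟨h1, h2⟩, h3⟩
  · exact absurd (Int.emod_eq_zero_of_dvd hA4) h
  · exact absurd (Int.emod_eq_zero_of_dvd hB4) h
  · exact absurd heq' h
  · linarith
  · exact absurd hdA h
  · exact absurd hdB h
  · exact absurd hdW h
  · exact ⟨h1, by rw [hA', h2]; norm_num, by rw [hB', h3]; norm_num⟩

theorem int_of_count {a : ℂ} (hint : IsIntegral ℤ a) {n c : ℕ} (hc : ¬ 13 ∣ c)
    (h : (n : ℂ) * c = 39 * (3 - a)) : ∃ m : ℕ, a = ((3 - (m : ℤ)) : ℤ) ∧ ∃ k, n = 13 * k ∧ k * c = 3 * m := by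
  have ha : a = (((3 - (n * c : ℕ) / 39 : ℚ)) : ℂ) := by
    push_cast
    linear_combination (1 / 39 : ℂ) * h
  obtain ⟨z, hz⟩ := CfsgLib.Char.exists_int_of_isIntegral_rat (q := (3 - (n * c : ℕ) / 39 : ℚ)) (ha ▸ hint)
  have hz' : ((n * c : ℕ) : ℤ) = 39 * (3 - z) := by
    have : ((n * c : ℕ) : ℚ) = 39 * (3 - (z : ℚ)) := by rw [← hz]; ring
    exact_mod_cast this
  obtain ⟨m, hm⟩ : ∃ m : ℕ, (m : ℤ) = 3 - z := ⟨(3 - z).toNat, by omega⟩
  have hnc : n * c = 39 * m := by
    rw [← hm] at hz'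
    exact_mod_cast hz'
  obtain ⟨k, rfl⟩ : 13 ∣ n := ((Nat.prime_iff.1 (by norm_num : Nat.Prime 13)).dvd_or_dvd
    (⟨3 * m, by rw [hnc]; ring⟩ : 13 ∣ n * c)).resolve_right hc
  refine ⟨m, ?_, k, rfl, ?_⟩
  · rw [ha, hz, hm]
    push_cast
    ring
  · rw [mul_assoc] at hnc
    omega

/-- An element of order three has its centralizer divisible by nine. -/
theorem nine_dvd_centralizer (hG : Nat.card G = 5616) {s : G} (hs : orderOf s = 3) :
    9 ∣ Nat.card (centralizer ({s} : Set G)) := by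
  haveI : Fact (Nat.Prime 3) := ⟨Nat.prime_three⟩
  obtain ⟨R, hR⟩ := (IsPGroup.of_card (n := 1) (by rw [Nat.card_zpowers, hs, pow_one]) :
    IsPGroup 3 (zpowers s)).exists_le_sylow
  have hRc : Nat.card (R : Subgroup G) = 3 ^ 3 :=
    card_sylow_eq (m := 208) (by rw [hG]; norm_num) (by norm_num) R
  set Z := (center (R : Subgroup G)).map (R : Subgroup G).subtype with hZ
  have hZc : ∀ z ∈ Z, ∀ y ∈ (R : Subgroup G), y * z = z * y := by
    rintro _ ⟨z, hz, rfl⟩ y hy
    exact congrArg Subtype.val (mem_center_iff.1 hz ⟨y, hy⟩)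
  by_cases hsZ : s ∈ Z
  · have hle : (R : Subgroup G) ≤ centralizer ({s} : Set G) := fun y hy =>
      mem_centralizer_singleton_iff.2 (hZc s hsZ y hy)
    exact (show 9 ∣ 3 ^ 3 by norm_num).trans (hRc ▸ card_dvd_of_le hle)
  haveI : Nontrivial (R : Subgroup G) := Finite.one_lt_card_iff_nontrivial.1 (by rw [hRc]; norm_num)
  haveI := R.2.center_nontrivial
  have hlt : Z < centralizer ({s} : Set G) ⊓ (R : Subgroup G) := by
    refine lt_of_le_of_ne (fun z hz => Subgroup.mem_inf.2 ⟨?_, ?_⟩) fun e => hsZ ?_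
    · exact mem_centralizer_singleton_iff.2 (hZc z hz s (hR (mem_zpowers s))).symm
    · obtain ⟨z, -, rfl⟩ := hz
      exact z.2
    · rw [e]
      exact Subgroup.mem_inf.2 ⟨mem_centralizer_singleton_iff.2 rfl, hR (mem_zpowers s)⟩
  have h1 : 3 ∣ Nat.card Z := by
    rw [hZ, card_map_of_injective (R : Subgroup G).subtype_injective]
    obtain ⟨i, hi⟩ := IsPGroup.iff_card.1 (R.2.to_subgroup (center (R : Subgroup G)))
    have h2 := Finite.one_lt_card (α := center (R : Subgroup G))
    rw [hi] at h2 ⊢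
    exact dvd_pow_self 3 fun h0 => by rw [h0, pow_zero] at h2; omega
  obtain ⟨i, hi⟩ := IsPGroup.iff_card.1 (R.2.to_le
    (inf_le_right : centralizer ({s} : Set G) ⊓ (R : Subgroup G) ≤ _))
  have h3 : 3 < Nat.card (centralizer ({s} : Set G) ⊓ (R : Subgroup G) : Subgroup G) :=
    lt_of_le_of_lt (Nat.le_of_dvd Nat.card_pos h1) (by
      refine lt_of_le_of_ne (card_le_of_le hlt.le) fun e => hlt.ne (eq_of_le_of_card_ge hlt.le e.ge))
  rw [hi] at h3
  have hi2 : 2 ≤ i := by
    by_contra hlt'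
    interval_cases i <;> norm_num at h3
  exact ((pow_dvd_pow 3 hi2).trans (hi ▸ card_dvd_of_le inf_le_left) : 3 ^ 2 ∣ _)

/-- The elements of order three in the centralizer of an involution. -/
theorem card_cent_inf (hG : Nat.card G = 5616) (D : Data G) {t s : G} (ht : orderOf t = 2) (hs : orderOf s = 3)
    (hts : Commute t s) :
    Nat.card (centralizer ({t} : Set G) ⊓ centralizer ({s} : Set G) : Subgroup G) = 6 := by
  classical
  obtain ⟨hC, htu, htv⟩ := invol_data hG D ht
  have hs1 : s ≠ 1 := fun e => by rw [e, orderOf_one] at hs; omega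
  have hs13 : ¬ 13 ∣ orderOf s := by rw [hs]; norm_num
  have ht13 : ¬ 13 ∣ orderOf t := by rw [ht]; norm_num
  set g := t * s with hg
  have hgo : orderOf g = 6 := by
    rw [hg, hts.orderOf_mul_eq_mul_orderOf_of_coprime (by rw [ht, hs]; norm_num), ht, hs]
  have hg13 : ¬ 13 ∣ orderOf g := by rw [hgo]; norm_num
  have hg1 : g ≠ 1 := fun e => by rw [e, orderOf_one] at hgo; omega
  have hv0 : ∀ y : G, 3 ∣ orderOf y → (D.v : G → ℂ) y = 0 := fun y hy =>
    CfsgLib.Char.vanish_of_defect_zero D.v.2 (n := 3) Nat.prime_three (by rw [hG]; norm_num)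
      (by rw [hG]; norm_num) (d := 27) (by rw [D.deg_v]; norm_num) (by norm_num) hy
  have hvs := hv0 s (by rw [hs])
  have hvg := hv0 g (by rw [hgo]; norm_num)
  have hcount : ∀ y : G, ¬ 13 ∣ orderOf y → (D.v : G → ℂ) y = 0 →
      (Nat.card {q : G × G // IsConj t q.1 ∧ IsConj y q.2 ∧ q.1 * q.2 = D.x} : ℂ) *
        Nat.card (centralizer ({y} : Set G)) = 39 * (3 - (D.u : G → ℂ) y) := by
    intro y hy hvy
    have h := D.pairs hG ht13 hy
    rw [hC, htu, htv, hvy] at h
    push_cast at h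
    linear_combination h / 48
  have hintu : ∀ y : G, IsIntegral ℤ ((D.u : G → ℂ) y) := fun y =>
    CfsgLib.Char.char_isIntegral (CfsgLib.Char.isCharacter_of_isIrr D.u.2) y
  have hcs := hcount s hs13 hvs
  have hcg := hcount g hg13 hvg
  obtain ⟨m, hm, k, -, hkm⟩ := int_of_count (hintu s) (D.not_dvd_centralizer hG hs1 hs13) hcs
  obtain ⟨m', hm', k', -, hkm'⟩ := int_of_count (hintu g) (D.not_dvd_centralizer hG hg1 hg13) hcg
  have hm3 : 3 ∣ m := by
    obtain ⟨q, hq⟩ := nine_dvd_centralizer hG hs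
    rw [hq] at hkm
    exact ⟨k * q, by linarith⟩
  -- the restriction to the cyclic group of order six
  have htt : t * t = 1 := by rw [← pow_two, ← ht, pow_orderOf_eq_one]
  have hs3 : s ^ 3 = 1 := by rw [← hs, pow_orderOf_eq_one]
  obtain ⟨z, hz⟩ := CfsgLib.Char.classInner_gen_int
    (CfsgLib.Char.isGen_res (zpowers g) (CfsgLib.Char.isGen_of_irr D.u.2))
    (CfsgLib.Char.isGen_of_irr (CfsgLib.Char.isIrrCharacter_one (G := zpowers g)))
  rw [CfsgLib.Char.classInner_def, Nat.card_zpowers, hgo, inv_mul_eq_iff_eq_mul₀ (by norm_num)] at hz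
  simp only [map_one, mul_one] at hz
  rw [← (finEquivZPowers (isOfFinOrder_of_finite g)).sum_comp] at hz
  have hsum : ∑ i : Fin (orderOf g), (D.u : G → ℂ) (g ^ (i : ℕ)) = ∑ i ∈ Finset.range 6, (D.u : G → ℂ) (g ^ i) := by
    rw [Fin.sum_univ_eq_sum_range (fun i => (D.u : G → ℂ) (g ^ i)) (orderOf g), hgo]
  rw [Finset.sum_congr rfl (g := fun i : Fin (orderOf g) => (D.u : G → ℂ) (g ^ (i : ℕ)))
    (fun i _ => by rw [finEquivZPowers_apply]), hsum] at hz
  have hg6 : g ^ 6 = 1 := by rw [← hgo, pow_orderOf_eq_one]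
  have hg2 : g ^ 2 = s⁻¹ := by
    rw [hg, hts.mul_pow, pow_two t, htt, one_mul, eq_inv_iff_mul_eq_one, ← pow_succ, hs3]
  have hg3 : g ^ 3 = t := by
    rw [hg, hts.mul_pow, hs3, mul_one, pow_succ, pow_two, htt, one_mul]
  have hg4 : g ^ 4 = s := by
    rw [pow_succ, hg3, hg, ← mul_assoc, htt, one_mul]
  have hg5 : g ^ 5 = g⁻¹ := by
    rw [eq_inv_iff_mul_eq_one, ← pow_succ, hg6]
  have hcu : ∀ y, (D.u : G → ℂ) y⁻¹ = conj ((D.u : G → ℂ) y) := fun y =>
    CfsgLib.Char.char_inv (CfsgLib.Char.isCharacter_of_isIrr D.u.2) y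
  rw [Finset.sum_range_succ, Finset.sum_range_succ, Finset.sum_range_succ, Finset.sum_range_succ,
    Finset.sum_range_succ, Finset.sum_range_one, pow_zero, pow_one, hg2, hg3, hg4, hg5, hcu, hcu, D.deg_u,
    htu, hm, hm', map_intCast, map_intCast] at hz
  have hz' : 12 + (3 - (m' : ℤ)) + (3 - m) + 4 + (3 - m) + (3 - m') = 6 * z := by exact_mod_cast hz
  have hnorm := D.norm_le hg13 (a := 3 - m') (b := 0) hm' (by rw [hvg, Int.cast_zero])
  have heq : centralizer ({g} : Set G) = centralizer ({t} : Set G) ⊓ centralizer ({s} : Set G) := by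
    ext y
    rw [Subgroup.mem_inf, mem_centralizer_singleton_iff, mem_centralizer_singleton_iff,
      mem_centralizer_singleton_iff]
    constructor
    · intro h
      have h' : Commute y g := h
      exact ⟨(hg3 ▸ h'.pow_right 3 : Commute y t), (hg4 ▸ h'.pow_right 4 : Commute y s)⟩
    · rintro ⟨h1, h2⟩
      exact (Commute.mul_right (a := y) h1 h2).eq
  rw [← heq]
  set c := Nat.card (centralizer ({g} : Set G)) with hc
  have hc48 : c ∣ 48 := by
    rw [hc, heq, ← hC]
    exact card_dvd_of_le inf_le_left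
  have hc6 : 6 ∣ c := hgo ▸ Subgroup.orderOf_dvd_natCard _ (mem_centralizer_singleton_iff.2 (rfl : g * g = g * g))
  have hm'3 : m' % 3 = 2 := by omega
  rcases Nat.eq_zero_or_pos k' with rfl | hk'
  · omega
  have hle : (c : ℤ) ≤ 3 * (m' : ℤ) := by
    have : c ≤ k' * c := Nat.le_mul_of_pos_left c hk'
    omega
  have hm5 : m' ≤ 5 := by
    by_contra hlt
    have h6 : (6 : ℤ) ≤ m' := by omega
    nlinarith
  obtain rfl : m' = 2 := by
    rcases (by omega : m' = 2 ∨ m' = 5) with e | e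
    · exact e
    · subst e; norm_num at hnorm; omega
  have hcle : c ≤ 6 := by omega
  have := Nat.le_of_dvd (hc ▸ Nat.card_pos) hc6
  omega

end CfsgLib.SmallSimple.Degree6000.Five616
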